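import Groth.Agent.GaGmQuot.Main
import Groth.Agent.FBaseLib.GeomConn
import Groth.Agent.AbVarLib.GeomIntegralSmooth
import Mathlib.RingTheory.Smooth.Basic
import Mathlib.AlgebraicGeometry.Morphisms.Smooth

/-!
# The additive group over a field is smooth and geometrically integral
-/

set_option autoImplicit false
set_option linter.style.haveILetI false

universe u

open CategoryTheory CategoryTheory.Limits MonoidalCategory CartesianMonoidalCategory MonObj AlgebraicGeometry
open Polynomial Groth.Agent.SGA3cLib

noncomputable section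

namespace Groth.Agent.GaGmQuot

variable {K : Type u} [Field K]

theorem bijective_ev_gaX : Function.Bijective (ev (Red.Ga (Spec (CommRingCat.of K))) (gaX K)) := by
  refine ⟨ev_gaX_injective, fun d => ?_⟩
  obtain ⟨m, Q, hm, hQ⟩ := gen_gaX d
  rcases hm with rfl | hu
  · exact ⟨Q, by rw [← hQ, pow_zero, _root_.one_mul]⟩
  · exfalso
    obtain ⟨g, hg⟩ := exists_gaFn (S := Spec (CommRingCat.of K)) (X := 𝟙_ (Over (Spec (CommRingCat.of K)))) 0
    have := hu.map g.left.appTop.hom
    rw [show g.left.appTop (gaX K) = 0 by rw [appTop_gaX, hg]] at this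
    exact one_ne_zero (cst_injective_point (K := K) ((map_one _).trans ((isUnit_zero_iff.1 this).symm.trans (map_zero _).symm)))

instance smooth_ga : Smooth (Red.Ga (Spec (CommRingCat.of K))).hom := by
  rw [HasRingHomProperty.iff_of_isAffine (P := @Smooth)]
  let e := RingEquiv.ofBijective (ev (Red.Ga (Spec (CommRingCat.of K))) (gaX K)) bijective_ev_gaX
  have h : (Red.Ga (Spec (CommRingCat.of K))).hom.appTop.hom =
      (e.toRingHom.comp (algebraMap K K[X])).comp (Scheme.ΓSpecIso (CommRingCat.of K)).commRingCatIsoToRingEquiv.toRingHom := by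
    refine RingHom.ext fun c => ?_
    show _ = ev (Red.Ga (Spec (CommRingCat.of K))) (gaX K) (C ((Scheme.ΓSpecIso (CommRingCat.of K)).hom c))
    rw [ev_C]
    exact congrArg _ (congrArg (fun m : Γ(Spec (CommRingCat.of K), ⊤) ⟶ _ => m.hom c)
      (Scheme.ΓSpecIso (CommRingCat.of K)).hom_inv_id).symm
  rw [h]
  refine RingHom.Smooth.respectsIso.2 _ _ (RingHom.Smooth.respectsIso.1 _ e ?_)
  exact RingHom.smooth_algebraMap.2 ⟨inferInstance, inferInstance⟩

instance isIntegral_ga : IsIntegral (Red.Ga (Spec (CommRingCat.of K))).left := by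
  let e := RingEquiv.ofBijective (ev (Red.Ga (Spec (CommRingCat.of K))) (gaX K)) bijective_ev_gaX
  haveI : IsDomain Γ((Red.Ga (Spec (CommRingCat.of K))).left, ⊤) := e.symm.toMulEquiv.isDomain _
  haveI : IsIntegral (Spec Γ((Red.Ga (Spec (CommRingCat.of K))).left, ⊤)) := inferInstance
  haveI : Nonempty (Red.Ga (Spec (CommRingCat.of K))).left :=
    ⟨η[Red.Ga (Spec (CommRingCat.of K))].left (IsLocalRing.closedPoint K)⟩
  exact isIntegral_of_isOpenImmersion (Red.Ga (Spec (CommRingCat.of K))).left.isoSpec.hom

/-- A smooth connected quasi-compact group scheme over a field is geometrically integral. -/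
theorem geometricallyIntegral_of_connected (G : Over (Spec (CommRingCat.of K))) [GrpObj G] [Smooth G.hom]
    [QuasiCompact G.hom] [ConnectedSpace G.left] : GeometricallyIntegral G.hom := by
  have : GeometricallyConnected (η[G].left ≫ G.hom) := by
    rw [Over.w η[G]]
    exact ⟨fun L _ y Z fst snd h => by
      have : IsIso snd := MorphismProperty.of_isPullback (P := MorphismProperty.isomorphisms Scheme) h
        (inferInstanceAs (IsIso (𝟙 _)))
      exact (asIso snd).schemeIsoToHomeo.symm.surjective.connectedSpace (asIso snd).schemeIsoToHomeo.symm.continuous⟩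
  have : Nonempty ↥((𝟙_ (Over (Spec (CommRingCat.of K)))).left) :=
    inferInstanceAs (Nonempty (Spec (CommRingCat.of K)))
  have : GeometricallyConnected G.hom := Groth.Agent.FBaseLib.geometricallyConnected_of_source η[G].left G.hom
  exact Groth.Agent.AbVarLib.geometricallyIntegral_of_smooth G.hom

instance geometricallyIntegral_ga : GeometricallyIntegral (Red.Ga (Spec (CommRingCat.of K))).hom := by
  haveI : QuasiCompact (Red.Ga (Spec (CommRingCat.of K))).hom := by
    haveI : IsAffineHom (Red.Ga (Spec (CommRingCat.of K))).hom := isAffineHom_of_isAffine _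
    infer_instance
  exact geometricallyIntegral_of_connected _

end Groth.Agent.GaGmQuot
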