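import Mathlib.AlgebraicGeometry.AffineSpace
import Mathlib.RingTheory.Nilpotent.Basic
import Mathlib.Algebra.MvPolynomial.Nilpotent

/-!
# Invertible functions on affine space over a reduced scheme
-/

set_option autoImplicit false

universe u

open CategoryTheory CategoryTheory.Limits AlgebraicGeometry

noncomputable section

namespace Groth.Agent.GaGmQuot

variable {n : Type u}

/-- Global functions are separated by an open cover. -/
theorem global_ext {X : Scheme.{u}} (𝒰 : X.OpenCover) {a b : Γ(X, ⊤)}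
    (h : ∀ i, (𝒰.f i).appTop a = (𝒰.f i).appTop b) : a = b := by
  have : (AffineSpace.toSpecMvPolyIntEquiv PUnit.{u + 1}).symm (fun _ => a) =
      (AffineSpace.toSpecMvPolyIntEquiv PUnit.{u + 1}).symm (fun _ => b) := by
    refine 𝒰.hom_ext _ _ fun i => (AffineSpace.toSpecMvPolyIntEquiv PUnit.{u + 1}).injective (funext fun j => ?_)
    rw [AffineSpace.toSpecMvPolyIntEquiv_comp, AffineSpace.toSpecMvPolyIntEquiv_comp,
      Equiv.apply_symm_apply, Equiv.apply_symm_apply]
    exact h i
  exact congrFun ((AffineSpace.toSpecMvPolyIntEquiv PUnit.{u + 1}).symm.injective this) PUnit.unit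

/-- The zero section of affine space. -/
def zeroSection (n : Type u) (X : Scheme.{u}) : X ⟶ 𝔸(n; X) :=
  AffineSpace.homOfVector (𝟙 X) fun _ => 0

theorem zeroSection_over (X : Scheme.{u}) : zeroSection n X ≫ 𝔸(n; X) ↘ X = 𝟙 X :=
  AffineSpace.homOfVector_over _ _

theorem zeroSection_map {S T : Scheme.{u}} (f : S ⟶ T) :
    zeroSection n S ≫ AffineSpace.map n f = f ≫ zeroSection n T := by
  refine AffineSpace.hom_ext ?_ fun i => ?_
  · simp [zeroSection]
  · rw [Scheme.Hom.comp_appTop, Scheme.Hom.comp_appTop, CommRingCat.comp_apply, CommRingCat.comp_apply,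
      AffineSpace.map_appTop_coord, zeroSection, zeroSection, AffineSpace.homOfVector_appTop_coord,
      AffineSpace.homOfVector_appTop_coord, map_zero]

theorem unit_descends_of_isAffine (X : Scheme.{u}) [IsAffine X] [IsReduced X]
    (w : Γ(𝔸(n; X), ⊤)) (hw : IsUnit w) : ∃ v, (𝔸(n; X) ↘ X).appTop v = w := by
  let e := AffineSpace.isoOfIsAffine n X
  let P : MvPolynomial n Γ(X, ⊤) :=
    (Scheme.ΓSpecIso (.of (MvPolynomial n Γ(X, ⊤)))).hom (e.inv.appTop w)
  have hP : IsUnit P := (hw.map e.inv.appTop.hom).map (Scheme.ΓSpecIso (.of (MvPolynomial n Γ(X, ⊤)))).hom.hom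
  obtain ⟨r, -, hr⟩ := MvPolynomial.isUnit_iff_eq_C_of_isReduced.1 hP
  refine ⟨r, ?_⟩
  haveI : IsIso e.inv.appTop := inferInstanceAs (IsIso (e.inv.app ⊤))
  apply (ConcreteCategory.bijective_of_isIso e.inv.appTop).injective
  apply (ConcreteCategory.bijective_of_isIso (Scheme.ΓSpecIso (.of (MvPolynomial n Γ(X, ⊤)))).hom).injective
  have h1 : e.inv.appTop ((𝔸(n; X) ↘ X).appTop r) =
      (Spec.map (CommRingCat.ofHom MvPolynomial.C)).appTop (X.isoSpec.inv.appTop r) := by
    have := congrArg (fun m : _ ⟶ X => m.appTop r) (AffineSpace.isoOfIsAffine_inv_over (n := n) X)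
    exact this
  rw [h1]
  refine Eq.trans ?_ hr.symm
  rw [← CommRingCat.comp_apply, Scheme.ΓSpecIso_naturality, CommRingCat.comp_apply]
  have h2 : (Scheme.ΓSpecIso Γ(X, ⊤)).hom (X.isoSpec.inv.appTop r) = r := by
    have h3 := congrArg (fun m : X ⟶ X => m.appTop r) X.isoSpec.hom_inv_id
    rw [Scheme.Hom.comp_appTop, CommRingCat.comp_apply, Scheme.isoSpec_hom, Scheme.toSpecΓ_appTop] at h3
    simpa using h3
  rw [h2]
  rfl

/-- On a reduced base, an invertible function on affine space is constant along the fibres. -/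
theorem eq_of_isUnit (X : Scheme.{u}) [IsReduced X] (w : Γ(𝔸(n; X), ⊤)) (hw : IsUnit w) :
    (𝔸(n; X) ↘ X).appTop ((zeroSection n X).appTop w) = w := by
  refine global_ext (X.affineCover.pullback₁ (𝔸(n; X) ↘ X)) fun i => ?_
  let U := X.affineCover.X i
  let j : U ⟶ X := X.affineCover.f i
  haveI : IsOpenImmersion j := X.affineCover.map_prop i
  haveI : IsAffine U := Scheme.isAffine_affineCover X i
  haveI : IsReduced U := isReduced_of_isOpenImmersion j
  have hsq := (AffineSpace.isPullback_map (n := n) j)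
  obtain ⟨v, hv⟩ := unit_descends_of_isAffine U ((AffineSpace.map n j).appTop w) (hw.map _)
  have hv' : v = j.appTop ((zeroSection n X).appTop w) := by
    have h3 := congrArg (fun m : U ⟶ _ => m.appTop w) (zeroSection_map (n := n) j)
    have h4 := congrArg (fun m : U ⟶ U => m.appTop v) (zeroSection_over (n := n) U)
    simp only [Scheme.Hom.comp_appTop, CommRingCat.comp_apply] at h3 h4
    rw [← h3, ← hv, h4, Scheme.Hom.id_appTop]
    rfl
  have key : (AffineSpace.map n j).appTop ((𝔸(n; X) ↘ X).appTop ((zeroSection n X).appTop w)) =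
      (AffineSpace.map n j).appTop w := by
    rw [← hv, hv', ← CommRingCat.comp_apply, ← Scheme.Hom.comp_appTop, AffineSpace.map_over,
      Scheme.Hom.comp_appTop, CommRingCat.comp_apply]
  show (pullback.fst (𝔸(n; X) ↘ X) j).appTop _ = (pullback.fst (𝔸(n; X) ↘ X) j).appTop w
  rw [← hsq.isoPullback_inv_fst, Scheme.Hom.comp_appTop, CommRingCat.comp_apply, CommRingCat.comp_apply, key]

end Groth.Agent.GaGmQuot
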