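import Groth.Agent.GaGmQuot.GaSmooth
import Mathlib.RingTheory.Localization.Away.Basic
import Mathlib.RingTheory.RingHom.Smooth
import Mathlib.AlgebraicGeometry.Morphisms.Finite
import Mathlib.AlgebraicGeometry.Morphisms.Integral

/-!
# The multiplicative group over a field is smooth and geometrically integral; its power maps are finite
-/

set_option autoImplicit false
set_option linter.style.haveILetI false

universe u

open CategoryTheory CategoryTheory.Limits MonoidalCategory CartesianMonoidalCategory MonObj AlgebraicGeometry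
open Polynomial Groth.Agent.SGA3cLib

noncomputable section

namespace Groth.Agent.GaGmQuot

variable {K : Type u} [Field K]

theorem isLocalizationAway_gmX :
    letI := (ev (Red.Gm (Spec (CommRingCat.of K))) (gmX K)).toAlgebra
    IsLocalization.Away (X : K[X]) Γ((Red.Gm (Spec (CommRingCat.of K))).left, ⊤) := by
  let Y := Red.Gm (Spec (CommRingCat.of K))
  letI := (ev Y (gmX K)).toAlgebra
  have hu : IsUnit (gmX K) := isUnit_gmFn _
  refine { map_units := ?_, surj := ?_, exists_of_eq := ?_ }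
  · rintro ⟨y, n, rfl⟩
    show IsUnit (ev Y (gmX K) (X ^ n))
    rw [map_pow, ev_X]
    exact hu.pow n
  · intro d
    obtain ⟨m, Q, -, hQ⟩ := gen_gmX (K := K) d
    refine ⟨(Q, ⟨X ^ m, m, rfl⟩), ?_⟩
    show d * ev Y (gmX K) (X ^ m) = ev Y (gmX K) Q
    rw [map_pow, ev_X, mul_comm]
    exact hQ
  · intro a b h
    exact ⟨1, by rw [ev_gmX_injective (K := K) h]⟩

theorem isIntegralHom_of_finite_aux {R S : Type u} [CommRing R] [CommRing S] (ψ : R →+* S) {x w : S}
    (hx : ψ.IsIntegralElem x) (hw : ψ.IsIntegralElem w)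
    (hgen : ∀ d : S, d ∈ Subring.closure (Set.range ψ ∪ {x, w})) : ψ.IsIntegral := fun d => by
  induction hgen d using Subring.closure_induction with
  | mem y hy =>
    rcases hy with ⟨r, rfl⟩ | rfl | rfl
    · exact ψ.isIntegralElem_map
    · exact hx
    · exact hw
  | zero => exact RingHom.isIntegralElem_zero ψ
  | one => exact RingHom.isIntegralElem_one ψ
  | add _ _ _ _ h₁ h₂ => exact h₁.add ψ h₂
  | neg _ _ h => exact h.neg ψ
  | mul _ _ _ _ h₁ h₂ => exact h₁.mul ψ h₂

instance smooth_gm : Smooth (Red.Gm (Spec (CommRingCat.of K))).hom := by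
  let Y := Red.Gm (Spec (CommRingCat.of K))
  letI := (ev Y (gmX K)).toAlgebra
  haveI := isLocalizationAway_gmX (K := K)
  rw [HasRingHomProperty.iff_of_isAffine (P := @Smooth)]
  have h : Y.hom.appTop.hom =
      ((algebraMap K[X] Γ(Y.left, ⊤)).comp (algebraMap K K[X])).comp
        (Scheme.ΓSpecIso (CommRingCat.of K)).commRingCatIsoToRingEquiv.toRingHom := by
    refine RingHom.ext fun c => ?_
    show _ = ev Y (gmX K) (C ((Scheme.ΓSpecIso (CommRingCat.of K)).hom c))
    rw [ev_C]
    exact congrArg _ (congrArg (fun m : Γ(Spec (CommRingCat.of K), ⊤) ⟶ _ => m.hom c)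
      (Scheme.ΓSpecIso (CommRingCat.of K)).hom_inv_id).symm
  show RingHom.Smooth Y.hom.appTop.hom
  rw [h]
  refine RingHom.Smooth.respectsIso.2 _ _ (RingHom.Smooth.stableUnderComposition _ _ ?_ ?_)
  · exact RingHom.smooth_algebraMap.2 ⟨inferInstance, inferInstance⟩
  · exact RingHom.smooth_algebraMap.2 (Algebra.Smooth.of_isLocalization_Away (X : K[X]))

instance isIntegral_gm : IsIntegral (Red.Gm (Spec (CommRingCat.of K))).left := by
  let Y := Red.Gm (Spec (CommRingCat.of K))
  letI := (ev Y (gmX K)).toAlgebra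
  haveI := isLocalizationAway_gmX (K := K)
  haveI : IsDomain Γ(Y.left, ⊤) := IsLocalization.isDomain_of_le_nonZeroDivisors _
    (powers_le_nonZeroDivisors_of_noZeroDivisors (X_ne_zero (R := K)))
  haveI : IsIntegral (Spec Γ(Y.left, ⊤)) := inferInstance
  haveI : Nonempty Y.left := ⟨η[Y].left (IsLocalRing.closedPoint K)⟩
  exact isIntegral_of_isOpenImmersion Y.left.isoSpec.hom

instance geometricallyIntegral_gm : GeometricallyIntegral (Red.Gm (Spec (CommRingCat.of K))).hom := by
  haveI : QuasiCompact (Red.Gm (Spec (CommRingCat.of K))).hom := by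
    haveI : IsAffineHom (Red.Gm (Spec (CommRingCat.of K))).hom := isAffineHom_of_isAffine _
    infer_instance
  exact geometricallyIntegral_of_connected _

/-- The power maps of `G_m` are finite and surjective. -/
theorem isFinite_surjective_gm_pow {n : ℕ} (hn : 0 < n) :
    IsFinite ((𝟙 (Red.Gm (Spec (CommRingCat.of K)))) ^ n).left ∧
      Surjective ((𝟙 (Red.Gm (Spec (CommRingCat.of K)))) ^ n).left := by
  let Y := Red.Gm (Spec (CommRingCat.of K))
  let φ : Y ⟶ Y := (𝟙 Y) ^ n
  have hφ : φ.left.appTop (gmX K) = gmX K ^ n := by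
    rw [appTop_gmX, gmFn_pow]; rfl
  have hu : IsUnit (gmX K) := isUnit_gmFn _
  refine ⟨?_, (flat_surjective_of_coord gen_gmX ev_gmX_injective φ (monic_X_pow n)
    (by rw [natDegree_X_pow]; exact hn) (by rw [hφ, map_pow, ev_X]) fun _ => by rw [natDegree_X_pow]).2⟩
  haveI : LocallyOfFiniteType φ.left := by
    haveI : LocallyOfFiniteType (φ.left ≫ Y.hom) := by rw [Over.w]; infer_instance
    exact locallyOfFiniteType_of_comp φ.left Y.hom
  rw [IsFinite.iff_isIntegralHom_and_locallyOfFiniteType]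
  refine ⟨?_, inferInstance⟩
  haveI : IsAffineHom φ.left := isAffineHom_of_isAffine _
  haveI : MorphismProperty.RespectsIso @IsIntegralHom.{u} := MorphismProperty.IsStableUnderBaseChange.respectsIso
  rw [MorphismProperty.arrow_mk_iso_iff @IsIntegralHom.{u} (arrowIsoSpecΓOfIsAffine φ.left), IsIntegralHom.SpecMap_iff]
  let ψ := φ.left.appTop.hom
  have hx : ψ.IsIntegralElem (gmX K) := ⟨X ^ n - C (gmX K), monic_X_pow_sub_C _ hn.ne', by
    rw [eval₂_sub, eval₂_C, eval₂_X_pow]
    exact sub_eq_zero.2 hφ.symm⟩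
  have hw : ψ.IsIntegralElem (↑hu.unit⁻¹ : Γ(Y.left, ⊤)) := ⟨X ^ n - C (↑hu.unit⁻¹ : Γ(Y.left, ⊤)),
    monic_X_pow_sub_C _ hn.ne', by
    rw [eval₂_sub, eval₂_C, eval₂_X_pow, sub_eq_zero]
    refine (hu.pow n).mul_right_cancel ?_
    rw [← mul_pow, hu.val_inv_mul, one_pow, ← hφ]
    exact ((map_mul ψ _ _).symm.trans ((congrArg ψ hu.val_inv_mul).trans (map_one ψ))).symm⟩
  refine isIntegralHom_of_finite_aux ψ hx hw fun d => ?_
  have hxS : gmX K ∈ Subring.closure (Set.range ψ ∪ {gmX K, (↑hu.unit⁻¹ : Γ(Y.left, ⊤))}) :=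
    Subring.subset_closure (Or.inr (Or.inl rfl))
  have hwS : (↑hu.unit⁻¹ : Γ(Y.left, ⊤)) ∈ Subring.closure (Set.range ψ ∪ {gmX K, (↑hu.unit⁻¹ : Γ(Y.left, ⊤))}) :=
    Subring.subset_closure (Or.inr (Or.inr rfl))
  obtain ⟨m, Q, -, hQ⟩ := gen_gmX (K := K) d
  have h1 : d = (↑hu.unit⁻¹ : Γ(Y.left, ⊤)) ^ m * ev Y (gmX K) Q := by
    rw [← hQ, ← _root_.mul_assoc, ← mul_pow, hu.val_inv_mul, one_pow, _root_.one_mul]
  rw [h1]
  refine mul_mem (pow_mem hwS m) ?_
  clear h1 hQ
  induction Q using Polynomial.induction_on' with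
  | add p q hp hq => rw [map_add]; exact add_mem hp hq
  | monomial i c =>
    rw [← C_mul_X_pow_eq_monomial, map_mul, map_pow, ev_X, ev_C, ← appTop_cst φ c]
    exact mul_mem (Subring.subset_closure (Or.inl ⟨_, rfl⟩))
      (pow_mem hxS i)

end Groth.Agent.GaGmQuot
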