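import Groth.Agent.GaGmQuot.GaSmooth
import Groth.Agent.GaGmQuot.GmSmooth
import Groth.Agent.S7976
import Groth.Agent.IsoTriv.SchemeSpec
import Groth.Agent.AbVarLib.AlgClosedIntegral
import Mathlib.RingTheory.KrullDimension.PID

/-!
# Affine one-dimensional group varieties are `𝔾_a` or `𝔾_m`
-/

set_option autoImplicit false
set_option linter.all false
set_option backward.isDefEq.respectTransparency false
set_option backward.isDefEq.respectTransparency.types false
set_option maxHeartbeats 1000000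

universe u

open CategoryTheory CategoryTheory.Limits MonoidalCategory CartesianMonoidalCategory MonObj AlgebraicGeometry
open Polynomial Groth.Agent.SGA3cLib Groth.Agent.IsoTriv.SchemeSpec

noncomputable section

namespace Groth.Agent.GaGmQuot

open CoactBr HopfLib.SpPoints

variable {K : Type u} [Field K]

/-- An integral affine group variety of dimension one has one of two Hopf algebras. -/
theorem classify_spec [IsAlgClosed K] (G : Over (Spec (CommRingCat.of K))) [GrpObj G] [IsIntegral G.left]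
    [IsAffine G.left] [LocallyOfFiniteType G.hom] (hdim : topologicalKrullDim ↥G.left = 1) :
    Nonempty (Grp.mk G ≅ Grp.mk (sp K (MonoidAlgebra K (Multiplicative ℤ)))) ∨
      Nonempty (Grp.mk G ≅ Grp.mk (sp K (SymmetricAlgebra K K))) := by
  obtain ⟨A, _, _, ⟨e⟩⟩ := exists_spec G
  let i : G ≅ sp K A := (Grp.forget _).mapIso e
  let il : G.left ≅ Spec (CommRingCat.of A) := (Over.forget _).mapIso i
  haveI : IsIntegral (Spec (CommRingCat.of A)) :=
    haveI : Nonempty ↥(Spec (CommRingCat.of A)) := ⟨il.hom (Classical.arbitrary _)⟩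
    isIntegral_of_isOpenImmersion il.inv
  haveI : IsDomain A := (affine_isIntegral_iff (CommRingCat.of A)).1 inferInstance
  haveI : LocallyOfFiniteType (sp K A).hom := by
    rw [← Over.w i.inv]
    infer_instance
  haveI hsp : LocallyOfFiniteType (Spec.map (CommRingCat.ofHom (algebraMap K A))) :=
    ‹LocallyOfFiniteType (sp K A).hom›
  haveI : Algebra.FiniteType K A :=
    RingHom.finiteType_algebraMap.1 ((HasRingHomProperty.Spec_iff (P := @LocallyOfFiniteType)).1 hsp)
  have hd : ringKrullDim A = 1 := by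
    rw [← PrimeSpectrum.topologicalKrullDim_eq_ringKrullDim, ← hdim]
    exact (IsHomeomorph.topologicalKrullDim_eq _ il.schemeIsoToHomeo.symm.isHomeomorph).trans rfl
  have hconn : ∀ e : A, IsIdempotentElem e → e = 0 ∨ e = 1 := fun e he => IsIdempotentElem.iff_eq_zero_or_one.1 he
  rcases Groth.Agent.S7976.result K A hconn hd with ⟨⟨f⟩⟩ | ⟨⟨f⟩⟩
  · obtain ⟨j⟩ := nonempty_grpIso f
    exact Or.inl ⟨e ≪≫ j⟩
  · obtain ⟨j⟩ := nonempty_grpIso f
    exact Or.inr ⟨e ≪≫ j⟩

theorem topologicalKrullDim_ga : topologicalKrullDim ↥(Red.Ga (Spec (CommRingCat.of K))).left = 1 := by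
  let Y := Red.Ga (Spec (CommRingCat.of K))
  rw [IsHomeomorph.topologicalKrullDim_eq _ (Y.left.isoSpec.schemeIsoToHomeo).isHomeomorph]
  show topologicalKrullDim (PrimeSpectrum Γ(Y.left, ⊤)) = 1
  rw [PrimeSpectrum.topologicalKrullDim_eq_ringKrullDim,
    ← ringKrullDim_eq_of_ringEquiv (RingEquiv.ofBijective (ev Y (gaX K)) bijective_ev_gaX)]
  exact IsPrincipalIdealRing.ringKrullDim_eq_one _ (Polynomial.not_isField K)

/-- There is no isomorphism between the underlying schemes over the field. -/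
theorem ga_not_iso_gm (e : Red.Ga (Spec (CommRingCat.of K)) ≅ Red.Gm (Spec (CommRingCat.of K))) : False := by
  let Y := Red.Ga (Spec (CommRingCat.of K))
  let Z := Red.Gm (Spec (CommRingCat.of K))
  have hu : IsUnit (e.hom.left.appTop (gmX K)) := (isUnit_gmFn _).map e.hom.left.appTop.hom
  obtain ⟨Q, hQ⟩ := bijective_ev_gaX.2 (e.hom.left.appTop (gmX K))
  have hQu : IsUnit Q := by
    rw [← hQ] at hu
    exact (MulEquiv.isUnit_map (RingEquiv.ofBijective (ev Y (gaX K)) bijective_ev_gaX)).1 hu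
  obtain ⟨c, -, hc⟩ := Polynomial.isUnit_iff.1 hQu
  rw [← hc, ev_C] at hQ
  have h := congrArg e.inv.left.appTop hQ
  rw [appTop_cst] at h
  have h2 : e.inv.left.appTop (e.hom.left.appTop (gmX K)) = gmX K := by
    show (e.hom.left.appTop ≫ e.inv.left.appTop) (gmX K) = gmX K
    rw [← Scheme.Hom.comp_appTop, ← Over.comp_left, e.inv_hom_id]
    rfl
  rw [h2] at h
  exact X_ne_C c (ev_gmX_injective (K := K) (by rw [ev_X, ev_C]; exact h.symm))

/-- Affine one-dimensional group varieties. -/
theorem classify [IsAlgClosed K] (G : Over (Spec (CommRingCat.of K))) [GrpObj G] [IsIntegral G.left]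
    [IsAffine G.left] [LocallyOfFiniteType G.hom] (hdim : topologicalKrullDim ↥G.left = 1) :
    Nonempty (Grp.mk G ≅ Grp.mk (Red.Ga (Spec (CommRingCat.of K)))) ∨
      Nonempty (Grp.mk G ≅ Grp.mk (Red.Gm (Spec (CommRingCat.of K)))) := by
  obtain ⟨j⟩ := nonempty_DS K ℤ
  rcases classify_spec (Red.Ga (Spec (CommRingCat.of K))) topologicalKrullDim_ga with ⟨⟨a⟩⟩ | ⟨⟨a⟩⟩
  · exact (ga_not_iso_gm ((Grp.forget _).mapIso (a ≪≫ j.symm))).elim
  · rcases classify_spec G hdim with ⟨⟨g⟩⟩ | ⟨⟨g⟩⟩
    · exact Or.inr ⟨g ≪≫ j.symm⟩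
    · exact Or.inl ⟨g ≪≫ a.symm⟩

end Groth.Agent.GaGmQuot
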