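import Groth.Agent.SGA3cLib.DiagPoints
import Groth.Agent.AlgGrpLib.SubgroupCalc
import Mathlib.RingTheory.Flat.TorsionFree
import Mathlib.RingTheory.Ideal.GoingUp
import Mathlib.AlgebraicGeometry.Morphisms.Flat
import Mathlib.AlgebraicGeometry.Morphisms.Finite
import Mathlib.FieldTheory.Minpoly.Basic
import Mathlib.LinearAlgebra.TensorProduct.Basic

/-!
# Coordinates on affine `K`-schemes: generators, finite closed subschemes, self-maps
-/

set_option autoImplicit false
set_option linter.style.haveILetI false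

universe u

open CategoryTheory CategoryTheory.Limits MonoidalCategory CartesianMonoidalCategory AlgebraicGeometry
open Polynomial TensorProduct

noncomputable section

namespace Groth.Agent.GaGmQuot

variable {K : Type u} [Field K]

/-- The base field inside global functions. -/
def cst (T : Over (Spec (CommRingCat.of K))) : K →+* Γ(T.left, ⊤) :=
  ((Scheme.ΓSpecIso (CommRingCat.of K)).inv ≫ T.hom.appTop).hom

theorem appTop_cst {T X : Over (Spec (CommRingCat.of K))} (g : T ⟶ X) (c : K) :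
    g.left.appTop (cst X c) = cst T c := by
  show (X.hom.appTop ≫ g.left.appTop) _ = _
  rw [← Scheme.Hom.comp_appTop, Over.w g]
  rfl

/-- Polynomials in a function. -/
def ev (T : Over (Spec (CommRingCat.of K))) (r : Γ(T.left, ⊤)) : K[X] →+* Γ(T.left, ⊤) := eval₂RingHom (cst T) r

theorem ev_X (T : Over (Spec (CommRingCat.of K))) (r : Γ(T.left, ⊤)) : ev T r X = r := eval₂_X _ _

theorem ev_C (T : Over (Spec (CommRingCat.of K))) (r : Γ(T.left, ⊤)) (c : K) : ev T r (C c) = cst T c := eval₂_C _ _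

theorem appTop_ev {T X : Over (Spec (CommRingCat.of K))} (g : T ⟶ X) (r : Γ(X.left, ⊤)) (Q : K[X]) :
    g.left.appTop (ev X r Q) = ev T (g.left.appTop r) Q := by
  show (g.left.appTop.hom.comp (ev X r)) Q = _
  refine DFunLike.congr_fun (Polynomial.ringHom_ext (fun c => ?_) ?_) Q
  · rw [RingHom.comp_apply, ev_C, ev_C]; exact appTop_cst g c
  · rw [RingHom.comp_apply, ev_X, ev_X]

theorem exists_hom {T X : Over (Spec (CommRingCat.of K))} [IsAffine X.left] (φ : Γ(X.left, ⊤) →+* Γ(T.left, ⊤))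
    (h : ∀ c, φ (cst X c) = cst T c) : ∃ g : T ⟶ X, ∀ d, g.left.appTop d = φ d := by
  let g : T.left ⟶ X.left := T.left.toSpecΓ ≫ Spec.map (CommRingCat.ofHom φ) ≫ X.left.isoSpec.inv
  have hinv : X.left.isoSpec.inv.appTop = (Scheme.ΓSpecIso Γ(X.left, ⊤)).inv := by
    haveI : IsIso X.left.isoSpec.hom.appTop := (inferInstance : IsIso (X.left.isoSpec.hom.app ⊤))
    rw [← cancel_mono (X.left.isoSpec.hom.appTop), ← Scheme.Hom.comp_appTop]
    simp [Scheme.isoSpec]
  have hg : g.appTop = CommRingCat.ofHom φ := by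
    simp only [g, Scheme.Hom.comp_appTop, hinv, Category.assoc, Scheme.toSpecΓ_appTop]
    rw [Scheme.ΓSpecIso_naturality]
    exact Iso.inv_hom_id_assoc _ _
  have hw : g ≫ X.hom = T.hom := ext_of_isAffine (by
    rw [Scheme.Hom.comp_appTop, hg, ← cancel_epi (Scheme.ΓSpecIso (CommRingCat.of K)).inv]
    exact CommRingCat.hom_ext (RingHom.ext h))
  exact ⟨Over.homMk g hw, fun d => congrArg (fun m : Γ(X.left, ⊤) ⟶ Γ(T.left, ⊤) => m d) hg⟩

/-- An affine scheme over `K` from a ring map. -/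
abbrev mkOver {B : Type u} [CommRing B] (c : K →+* B) : Over (Spec (CommRingCat.of K)) :=
  Over.mk (Spec.map (CommRingCat.ofHom c))

instance isAffine_mkOver {B : Type u} [CommRing B] (c : K →+* B) : IsAffine (mkOver c).left :=
  inferInstanceAs (IsAffine (Spec (CommRingCat.of B)))

/-- Global functions of `mkOver`. -/
def fnEquiv {B : Type u} [CommRing B] (c : K →+* B) : B ≃+* Γ((mkOver c).left, ⊤) :=
  (Scheme.ΓSpecIso (CommRingCat.of B)).symm.commRingCatIsoToRingEquiv

theorem fnEquiv_cst {B : Type u} [CommRing B] (c : K →+* B) (a : K) : fnEquiv c (c a) = cst (mkOver c) a :=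
  congrArg (fun m : CommRingCat.of K ⟶ _ => m a) (Scheme.ΓSpecIso_inv_naturality (CommRingCat.ofHom c))

theorem fnEquiv_ev {B : Type u} [CommRing B] (c : K →+* B) (b : B) (Q : K[X]) :
    fnEquiv c (eval₂ c b Q) = ev (mkOver c) (fnEquiv c b) Q := by
  show ((fnEquiv c).toRingHom.comp (eval₂RingHom c b)) Q = _
  refine DFunLike.congr_fun (Polynomial.ringHom_ext (fun a => ?_) ?_) Q
  · rw [RingHom.comp_apply, ev_C, coe_eval₂RingHom, eval₂_C]; exact fnEquiv_cst c a
  · rw [RingHom.comp_apply, ev_X, coe_eval₂RingHom, eval₂_X]; rfl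

/-- `x` generates the functions, up to inverting it when it is a unit. -/
def Gen {Y : Over (Spec (CommRingCat.of K))} (x : Γ(Y.left, ⊤)) : Prop :=
  ∀ d : Γ(Y.left, ⊤), ∃ (m : ℕ) (Q : K[X]), (m = 0 ∨ IsUnit x) ∧ x ^ m * d = ev Y x Q

theorem hom_ext_coord {Y T : Over (Spec (CommRingCat.of K))} [IsAffine Y.left] {x : Γ(Y.left, ⊤)} (hgen : Gen x)
    {g g' : T ⟶ Y} (h : g.left.appTop x = g'.left.appTop x) : g = g' := by
  refine Over.OverMorphism.ext (ext_of_isAffine (CommRingCat.hom_ext (RingHom.ext fun d => ?_)))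
  obtain ⟨m, Q, hm, hQ⟩ := hgen d
  have h1 : g.left.appTop (x ^ m * d) = g'.left.appTop (x ^ m * d) := by rw [hQ, appTop_ev, appTop_ev, h]
  rw [map_mul, map_mul, map_pow, map_pow, h] at h1
  rcases hm with rfl | hx
  · simpa using h1
  · exact ((hx.map g'.left.appTop.hom).pow m).mul_left_cancel h1

/-- A finite closed subscheme of a scheme with a coordinate is cut out by a monic polynomial in it. -/
theorem exists_cut {Y : Over (Spec (CommRingCat.of K))} [IsAffine Y.left] {x : Γ(Y.left, ⊤)} (hgen : Gen x)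
    {H : Over (Spec (CommRingCat.of K))} [IsFinite H.hom] (i : H ⟶ Y) [Mono i] :
    ∃ (P : K[X]), P.Monic ∧
      (∀ Q : K[X], ev H (i.left.appTop x) Q = 0 ↔ P ∣ Q) ∧
      (IsUnit x → P.coeff 0 ≠ 0) ∧
      ∀ (T : Over (Spec (CommRingCat.of K))) (g : T ⟶ Y),
        (ev T (g.left.appTop x) P = 0 ↔ ∃ n : T ⟶ H, n ≫ i = g) := by
  haveI : IsSeparated Y.hom := by
    haveI : IsAffineHom Y.hom := isAffineHom_of_isAffine _
    infer_instance
  haveI : IsFinite (i.left ≫ Y.hom) := by rw [Over.w]; infer_instance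
  haveI : IsFinite i.left := MorphismProperty.of_postcomp (W := @IsFinite) i.left Y.hom ‹_› ‹_›
  haveI : Mono i.left := inferInstanceAs (Mono ((Over.forget _).map i))
  haveI hci : IsClosedImmersion i.left := (IsClosedImmersion.iff_isFinite_and_mono _).2 ⟨inferInstance, inferInstance⟩
  obtain ⟨haff, hsurj⟩ := IsClosedImmersion.isAffine_surjective_of_isAffine i.left
  haveI : IsAffine H.left := haff
  letI : Algebra K Γ(H.left, ⊤) := (cst H).toAlgebra
  have hfin : (H.hom.appTop).hom.Finite := ((HasAffineProperty.iff_of_isAffine (P := @IsFinite) (f := H.hom)).mp ‹_›).2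
  haveI : Module.Finite K Γ(H.left, ⊤) :=
    RingHom.finite_algebraMap.1 (hfin.comp (RingHom.Finite.of_surjective _
      (ConcreteCategory.bijective_of_isIso (Scheme.ΓSpecIso (CommRingCat.of K)).inv).2))
  let a := i.left.appTop x
  have hint : IsIntegral K a := Algebra.IsIntegral.isIntegral a
  have hev : ∀ Q : K[X], ev H a Q = aeval a Q := fun Q => rfl
  have hker : ∀ Q : K[X], ev H a Q = 0 ↔ minpoly K a ∣ Q := fun Q => by
    rw [hev]; exact minpoly.dvd_iff.symm
  have hc0 : IsUnit x → (minpoly K a).coeff 0 ≠ 0 := fun hx h0 => by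
    obtain ⟨Q, hQ⟩ := Polynomial.X_dvd_iff.2 h0
    have h1 : a * aeval a Q = 0 := by
      have := minpoly.aeval K a
      rwa [hQ, map_mul, aeval_X] at this
    have h2 : aeval a Q = 0 := (hx.map i.left.appTop.hom).mul_right_eq_zero.1 h1
    have hQ0 : Q ≠ 0 := fun h => minpoly.ne_zero hint (by rw [hQ, h, mul_zero])
    have h3 := natDegree_le_of_dvd (minpoly.dvd_iff.2 h2) hQ0
    rw [hQ, natDegree_mul X_ne_zero hQ0, natDegree_X] at h3
    omega
  have hfull : Function.Surjective (ev H a) := fun r => by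
    obtain ⟨d, rfl⟩ := hsurj r
    obtain ⟨m, Q, hm, hQ⟩ := hgen d
    have h1 : a ^ m * i.left.appTop d = ev H a Q := by rw [← map_pow, ← map_mul, hQ, appTop_ev]
    rcases hm with rfl | hx
    · exact ⟨Q, by simpa using h1.symm⟩
    obtain ⟨R, hR⟩ := Polynomial.X_dvd_sub_C (p := minpoly K a)
    let w : K[X] := -C ((minpoly K a).coeff 0)⁻¹ * R
    have hw : ev H a w * a = 1 := by
      have h2 : ev H a (X * R) = ev H a (minpoly K a - C ((minpoly K a).coeff 0)) := by rw [hR]
      rw [map_mul, map_sub, ev_X, (hker _).2 dvd_rfl, zero_sub, ev_C] at h2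
      rw [map_mul, map_neg, ev_C, mul_assoc, mul_comm (ev H a R), h2, neg_mul_neg, ← map_mul,
        inv_mul_cancel₀ (hc0 hx), map_one]
    refine ⟨w ^ m * Q, ?_⟩
    rw [map_mul, map_pow, ← h1, ← mul_assoc, ← mul_pow, hw, one_pow, one_mul]
  refine ⟨minpoly K a, minpoly.monic hint, hker, hc0, fun T g => ⟨fun h0 => ?_, ?_⟩⟩
  · let φ : Γ(H.left, ⊤) →+* Γ(T.left, ⊤) := RingHom.liftOfSurjective (ev H a) hfull
      ⟨ev T (g.left.appTop x), fun Q hQ => by
        obtain ⟨R, rfl⟩ := (hker Q).1 hQ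
        rw [RingHom.mem_ker, map_mul, h0, zero_mul]⟩
    have hφ : ∀ Q, φ (ev H a Q) = ev T (g.left.appTop x) Q := fun Q =>
      RingHom.liftOfSurjective_comp_apply _ _ _ Q
    obtain ⟨n, hn⟩ := exists_hom φ fun c => by rw [← ev_C H a c, hφ, ev_C]
    refine ⟨n, hom_ext_coord hgen ?_⟩
    show n.left.appTop a = _
    rw [hn, ← ev_X H a, hφ, ev_X]
  · rintro ⟨n, rfl⟩
    show ev T (n.left.appTop a) _ = 0
    rw [← appTop_ev n a, (hker _).2 dvd_rfl, map_zero]

/-- If a point generates through the functions it hits, those functions are everything. -/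
theorem exists_eq_of_point {Y : Over (Spec (CommRingCat.of K))} [IsAffine Y.left] {x : Γ(Y.left, ⊤)}
    (B : Subring Γ(Y.left, ⊤)) (hB : ∀ c, cst Y c ∈ B) (hinj : ∀ g : Y ⟶ Y, g.left.appTop x = x → g = 𝟙 Y)
    (hy : ∃ y : mkOver ((cst Y).codRestrict B hB) ⟶ Y, ∃ hx : x ∈ B,
      y.left.appTop x = fnEquiv ((cst Y).codRestrict B hB) ⟨x, hx⟩) (d : Γ(Y.left, ⊤)) : d ∈ B := by
  let c := (cst Y).codRestrict B hB
  obtain ⟨y, hx, hy⟩ := hy
  obtain ⟨j, hj⟩ := exists_hom (T := Y) (X := mkOver c) (B.subtype.comp (fnEquiv c).symm.toRingHom) fun a => by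
    rw [← fnEquiv_cst, RingHom.comp_apply]
    show ((fnEquiv c).symm (fnEquiv c (c a)) : Γ(Y.left, ⊤)) = _
    rw [RingEquiv.symm_apply_apply]
    rfl
  have hid : j ≫ y = 𝟙 Y := hinj _ (by
    rw [Over.comp_left, Scheme.Hom.comp_appTop, CommRingCat.comp_apply, hy, hj, RingHom.comp_apply]
    show ((fnEquiv c).symm (fnEquiv c ⟨x, hx⟩) : Γ(Y.left, ⊤)) = x
    rw [RingEquiv.symm_apply_apply])
  have h1 : j.left.appTop (y.left.appTop d) = d := by
    rw [← CommRingCat.comp_apply, ← Scheme.Hom.comp_appTop, ← Over.comp_left, hid]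
    rfl
  rw [← h1, hj]
  exact ((fnEquiv c).symm (y.left.appTop d)).2

theorem flat_of_injective {R S : Type u} [CommRing R] [IsDomain R] [IsPrincipalIdealRing R] [CommRing S] [IsDomain S]
    (ψ : R →+* S) (hψ : Function.Injective ψ) : ψ.Flat := by
  algebraize [ψ]
  show Module.Flat R S
  rw [IsDedekindDomain.flat_iff_torsion_eq_bot, eq_bot_iff]
  rintro d ⟨⟨r, hr⟩, hrd⟩
  change ψ r * d = 0 at hrd
  rcases mul_eq_zero.1 hrd with h | h
  · exact absurd ((map_eq_zero_iff ψ hψ).1 h) (nonZeroDivisors.ne_zero hr)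
  · exact h

theorem comap_surjective_of_integral {R S : Type u} [CommRing R] [CommRing S] [IsDomain S] (ψ : R →+* S)
    (hψ : Function.Injective ψ) (hint : ψ.IsIntegral) : Function.Surjective (PrimeSpectrum.comap ψ) := fun q => by
  algebraize [ψ]
  haveI : Algebra.IsIntegral R S := ⟨hint⟩
  obtain ⟨Q, hQ, hc⟩ := Ideal.exists_ideal_over_prime_of_isIntegral_of_isDomain (R := R) (S := S) q.asIdeal (by
    rw [show RingHom.ker (algebraMap R S) = ⊥ from (RingHom.injective_iff_ker_eq_bot ψ).1 hψ]; exact bot_le)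
  exact ⟨⟨Q, hQ⟩, PrimeSpectrum.ext hc⟩

/-- Self-maps of a coordinate scheme given by nonconstant monic polynomials are flat and surjective. -/
theorem flat_surjective_of_coord {Y : Over (Spec (CommRingCat.of K))} [IsAffine Y.left] {x : Γ(Y.left, ⊤)}
    (hgen : Gen x) (hinj : Function.Injective (ev Y x)) (φ : Y ⟶ Y) {P : K[X]} (hP : P.Monic) (hdeg : 0 < P.natDegree)
    (hφ : φ.left.appTop x = ev Y x P) (hpow : IsUnit x → P = X ^ P.natDegree) :
    Flat φ.left ∧ Surjective φ.left := by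
  let D := Γ(Y.left, ⊤)
  have hx0 : x ≠ 0 := fun h => by
    have := hinj (a₁ := X) (a₂ := 0) (by rw [ev_X, map_zero, h])
    exact X_ne_zero this
  haveI : Nontrivial D := ⟨⟨x, 0, hx0⟩⟩
  have hnzd : ∀ {m : ℕ} {d : D}, (m = 0 ∨ IsUnit x) → x ^ m * d = 0 → d = 0 := fun hm h => by
    rcases hm with rfl | hx
    · simpa using h
    · exact (hx.pow _).mul_right_eq_zero.1 h
  haveI : NoZeroDivisors D := ⟨fun {d e} h => by
    obtain ⟨m, Q, hm, hQ⟩ := hgen d
    obtain ⟨l, R, hl, hR⟩ := hgen e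
    have h0 : ev Y x (Q * R) = ev Y x 0 := by
      rw [map_mul, ← hQ, ← hR, map_zero, mul_mul_mul_comm, h, mul_zero]
    rcases mul_eq_zero.1 (hinj h0) with rfl | rfl
    · exact Or.inl (hnzd hm (by rw [hQ, map_zero]))
    · exact Or.inr (hnzd hl (by rw [hR, map_zero]))⟩
  haveI : IsDomain D := NoZeroDivisors.to_isDomain D
  haveI : IsPrincipalIdealRing D := ⟨fun I => by
    obtain ⟨G, hG⟩ := (IsPrincipalIdealRing.principal (Ideal.comap (ev Y x) I)).principal
    refine ⟨⟨ev Y x G, le_antisymm (fun d hd => ?_) ((Ideal.span_singleton_le_iff_mem _).2 ?_)⟩⟩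
    · obtain ⟨m, Q, hm, hQ⟩ := hgen d
      have hQI : Q ∈ Ideal.comap (ev Y x) I := by rw [Ideal.mem_comap, ← hQ]; exact I.mul_mem_left _ hd
      rw [hG] at hQI
      obtain ⟨R, rfl⟩ := Ideal.mem_span_singleton'.1 hQI
      rw [map_mul] at hQ
      rcases hm with rfl | hx
      · rw [pow_zero, one_mul] at hQ
        rw [hQ]
        exact Ideal.mul_mem_left _ _ (Ideal.mem_span_singleton_self _)
      · obtain ⟨w, hw⟩ := (hx.pow m).exists_left_inv
        rw [← one_mul d, ← hw, mul_assoc, hQ]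
        exact Ideal.mul_mem_left _ _ (Ideal.mul_mem_left _ _ (Ideal.mem_span_singleton_self _))
    · have : G ∈ Ideal.comap (ev Y x) I := hG ▸ Ideal.mem_span_singleton_self G
      exact this⟩
  let ψ : D →+* D := φ.left.appTop.hom
  have hψx : ψ x = ev Y x P := hφ
  have hψ : Function.Injective ψ := by
    refine (injective_iff_map_eq_zero ψ).2 fun d hd => ?_
    obtain ⟨m, Q, hm, hQ⟩ := hgen d
    have h1 : ψ (ev Y x Q) = 0 := by rw [← hQ, map_mul, hd, mul_zero]
    rw [show ψ (ev Y x Q) = ev Y (ψ x) Q from appTop_ev φ x Q, hψx] at h1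
    have h2 : ev Y x (Q.comp P) = ev Y x 0 := by
      rw [map_zero, ← h1]; simp only [ev, coe_eval₂RingHom, eval₂_comp]
    rcases comp_eq_zero_iff.1 (hinj h2) with rfl | ⟨-, hc⟩
    · exact hnzd hm (by rw [hQ, map_zero])
    · rw [hc] at hdeg; simp at hdeg
  have hint : ψ.IsIntegral := by
    have hx : ψ.IsIntegralElem x := by
      refine ⟨(P.map (cst Y)) - C x, ?_, ?_⟩
      · refine (hP.map _).sub_of_left ?_
        refine lt_of_le_of_lt degree_C_le ?_
        rw [← natDegree_pos_iff_degree_pos, hP.natDegree_map]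
        exact hdeg
      · rw [eval₂_sub, eval₂_C, eval₂_map]
        show eval₂ (ψ.comp (cst Y)) x P - ψ x = 0
        rw [show ψ.comp (cst Y) = cst Y from RingHom.ext fun c => appTop_cst φ c, hψx]
        exact sub_self _
    have hpw : ∀ {z : D}, ψ.IsIntegralElem z → ∀ n : ℕ, ψ.IsIntegralElem (z ^ n) := fun {z} hz n => by
      induction n with
      | zero => rw [pow_zero]; exact RingHom.isIntegralElem_one ψ
      | succ n ih => rw [pow_succ]; exact ih.mul ψ hz
    have hpoly : ∀ Q : K[X], ψ.IsIntegralElem (ev Y x Q) := fun Q => by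
      induction Q using Polynomial.induction_on' with
      | add p q hp hq => rw [map_add]; exact hp.add ψ hq
      | monomial n c =>
        rw [← C_mul_X_pow_eq_monomial, map_mul, map_pow, ev_X, ev_C, ← appTop_cst φ c]
        exact (ψ.isIntegralElem_map (x := cst Y c)).mul ψ (hpw hx n)
    intro d
    obtain ⟨m, Q, hm, hQ⟩ := hgen d
    rcases hm with rfl | hu
    · rw [pow_zero, one_mul] at hQ; rw [hQ]; exact hpoly Q
    · obtain ⟨w, hw⟩ := hu.exists_left_inv
      have hwint : ψ.IsIntegralElem w := by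
        refine ⟨X ^ P.natDegree - C w, monic_X_pow_sub_C _ hdeg.ne', ?_⟩
        rw [eval₂_sub, eval₂_C, eval₂_X_pow]
        show w ^ P.natDegree - ψ w = 0
        have hPX : P = X ^ P.natDegree := hpow hu
        have h2 : ψ w * x ^ P.natDegree = 1 := by
          rw [show x ^ P.natDegree = ψ x by rw [hψx]; conv_rhs => rw [hPX]; rw [map_pow, ev_X], ← map_mul, hw, map_one]
        have h3 : w ^ P.natDegree * x ^ P.natDegree = 1 := by rw [← mul_pow, hw, one_pow]
        rw [sub_eq_zero]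
        exact (hu.pow _).mul_right_cancel (h3.trans h2.symm)
      rw [← one_mul d, ← one_pow m, ← hw, mul_pow, mul_assoc, hQ]
      exact (hpw hwint m).mul ψ (hpoly Q)
  refine ⟨(HasRingHomProperty.iff_of_isAffine (P := @Flat) (f := φ.left)).2 (flat_of_injective ψ hψ), ?_⟩
  rw [MorphismProperty.arrow_mk_iso_iff @Surjective (arrowIsoSpecΓOfIsAffine φ.left)]
  exact ⟨comap_surjective_of_integral ψ hψ hint⟩

end Groth.Agent.GaGmQuot
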