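import Groth.Agent.GaGmQuot.Coord
import Groth.Prelude.Def_WittGrp
import Mathlib.RingTheory.AdjoinRoot

/-!
# Finite subgroups of `G_a` and `G_m` are kernels of self-isogenies
-/

set_option autoImplicit false
set_option linter.style.haveILetI false

universe u

open CategoryTheory CategoryTheory.Limits MonoidalCategory CartesianMonoidalCategory MonObj AlgebraicGeometry
open Polynomial TensorProduct Groth.Agent.SGA3cLib

noncomputable section

namespace Groth.Agent.GaGmQuot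

variable {K : Type u} [Field K]

theorem slice_basis (P : K[X]) (hP : P ≠ 0) :
    ∃ δ : ℕ → (AdjoinRoot P →ₗ[K] K), ∀ i l, i < P.natDegree → l < P.natDegree →
      δ i (AdjoinRoot.root P ^ l) = if i = l then 1 else 0 := by
  classical
  let pb := AdjoinRoot.powerBasis hP
  refine ⟨fun i => if h : i < pb.dim then pb.basis.coord ⟨i, h⟩ else 0, fun i l hi hl => ?_⟩
  have hd : pb.dim = P.natDegree := AdjoinRoot.powerBasis_dim hP
  have hl' : l < pb.dim := hd.symm ▸ hl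
  have hi' : i < pb.dim := hd.symm ▸ hi
  beta_reduce
  rw [dif_pos hi', show AdjoinRoot.root P ^ l = pb.basis ⟨l, hl'⟩ by rw [pb.basis_eq_pow]; rfl,
    Module.Basis.coord_apply, Module.Basis.repr_self, Finsupp.single_apply]
  simp only [Fin.ext_iff, eq_comm]

theorem add_coeff_eq_zero {P : K[X]} (hP : P.Monic)
    (h : aeval ((AdjoinRoot.root P) ⊗ₜ[K] (1 : AdjoinRoot P) + (1 : AdjoinRoot P) ⊗ₜ[K] AdjoinRoot.root P) P = 0)
    {i j : ℕ} (hi : 1 ≤ i) (hj : 1 ≤ j) (hij : i + j ≤ P.natDegree) :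
    P.coeff (i + j) * ((i + j).choose i : K) = 0 := by
  classical
  set r := AdjoinRoot.root P
  set n := P.natDegree
  obtain ⟨δ, hδ⟩ := slice_basis P hP.ne_zero
  let L : AdjoinRoot P ⊗[K] AdjoinRoot P →ₗ[K] K := LinearMap.mul' K K ∘ₗ TensorProduct.map (δ i) (δ j)
  have hterm : ∀ m l, l ≤ m → m ≤ n → L ((r ⊗ₜ[K] (1 : AdjoinRoot P)) ^ l *
      ((1 : AdjoinRoot P) ⊗ₜ[K] r) ^ (m - l) * (m.choose l : AdjoinRoot P ⊗[K] AdjoinRoot P)) =
      if m = i + j ∧ l = i then ((i + j).choose i : K) else 0 := by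
    intro m l hl hm
    rw [Algebra.TensorProduct.tmul_pow, Algebra.TensorProduct.tmul_pow, one_pow, one_pow,
      Algebra.TensorProduct.tmul_mul_tmul, _root_.mul_one, _root_.one_mul, mul_comm, ← nsmul_eq_mul, map_nsmul]
    show (m.choose l) • (δ i (r ^ l) * δ j (r ^ (m - l))) = _
    by_cases hln : l = n
    · rw [show m - l = 0 by omega, hδ j 0 (by omega) (by omega), if_neg (by omega : j ≠ 0), mul_zero, smul_zero,
        if_neg (by omega)]
    by_cases hmn : m - l = n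
    · rw [show l = 0 by omega, hδ i 0 (by omega) (by omega), if_neg (by omega : i ≠ 0), zero_mul, smul_zero,
        if_neg (by omega)]
    rw [hδ i l (by omega) (by omega), hδ j (m - l) (by omega) (by omega)]
    by_cases hc : m = i + j ∧ l = i
    · obtain ⟨rfl, rfl⟩ := hc
      simp
    · rw [if_neg hc]
      split_ifs with h1 h2 <;> first | (exfalso; exact hc ⟨by omega, by omega⟩) | simp
  rw [aeval_eq_sum_range] at h
  have h' := congrArg L h
  rw [map_zero, map_sum] at h'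
  rw [Finset.sum_eq_single (i + j)] at h'
  · rw [map_smul, add_pow, map_sum, Finset.sum_eq_single i] at h'
    · rw [hterm _ _ (by omega) hij, if_pos ⟨rfl, rfl⟩, smul_eq_mul] at h'
      exact h'
    · intro l hl hne
      rw [hterm _ _ (by simp at hl; omega) hij, if_neg (fun hc => hne hc.2)]
    · intro hl; simp at hl
  · intro m hm hne
    rw [map_smul, add_pow, map_sum, Finset.sum_eq_zero, smul_zero]
    intro l hl
    rw [hterm _ _ (by simp at hl; omega) (by simp at hm; omega), if_neg (fun hc => hne hc.1)]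
  · intro hm; simp at hm; omega

theorem eval_add_of_coeff {R : Type u} [CommRing R] (c : K →+* R) {P : K[X]} (h0 : P.coeff 0 = 0)
    (h : ∀ i j, 1 ≤ i → 1 ≤ j → i + j ≤ P.natDegree → P.coeff (i + j) * ((i + j).choose i : K) = 0) (u v : R) :
    eval₂ c (u + v) P = eval₂ c u P + eval₂ c v P := by
  simp only [eval₂_eq_sum_range, ← Finset.sum_add_distrib]
  refine Finset.sum_congr rfl fun m hm => ?_
  rcases Nat.eq_zero_or_pos m with rfl | hm0
  · simp [h0]
  obtain ⟨m, rfl⟩ : ∃ m', m = m' + 1 := ⟨m - 1, by omega⟩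
  rw [add_pow, Finset.sum_range_succ, Finset.sum_range_succ', mul_add, mul_add, Finset.mul_sum, Finset.sum_eq_zero]
  · simp; ring
  intro l hl
  have hc := h (l + 1) (m - l) (by omega) (by simp at hl; omega) (by simp at hm hl; omega)
  rw [show l + 1 + (m - l) = m + 1 by simp at hl; omega] at hc
  rw [mul_comm _ (((m + 1).choose (l + 1) : ℕ) : R), ← _root_.mul_assoc, ← map_natCast c, ← map_mul, hc, map_zero,
    zero_mul]

theorem mul_coeff_eq_zero {P : K[X]} (hP : P.Monic)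
    (h : aeval ((AdjoinRoot.root P) ⊗ₜ[K] AdjoinRoot.root P) P = 0) {i j : ℕ}
    (hi : i < P.natDegree) (hj : j < P.natDegree) :
    (if i = j then P.coeff i else 0) + P.coeff i * P.coeff j = 0 := by
  classical
  set r := AdjoinRoot.root P
  set n := P.natDegree
  obtain ⟨δ, hδ⟩ := slice_basis P hP.ne_zero
  have htop : ∀ a < n, δ a (r ^ n) = -P.coeff a := by
    intro a ha
    have h1 : aeval r P = 0 := by rw [AdjoinRoot.aeval_eq, AdjoinRoot.mk_self]
    rw [aeval_eq_sum_range, Finset.sum_range_succ, hP.coeff_natDegree, one_smul] at h1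
    rw [eq_neg_of_add_eq_zero_right h1, map_neg, map_sum, Finset.sum_eq_single a]
    · rw [map_smul, hδ a a ha ha, if_pos rfl, smul_eq_mul, _root_.mul_one]
    · intro b hb hne
      rw [map_smul, hδ a b ha (by simpa using hb), if_neg hne.symm, smul_zero]
    · intro hb; simp at hb; omega
  let L : AdjoinRoot P ⊗[K] AdjoinRoot P →ₗ[K] K := LinearMap.mul' K K ∘ₗ TensorProduct.map (δ i) (δ j)
  have hL : ∀ m, L ((r ⊗ₜ[K] r) ^ m) = δ i (r ^ m) * δ j (r ^ m) := fun m => by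
    rw [Algebra.TensorProduct.tmul_pow]; rfl
  rw [aeval_eq_sum_range, Finset.sum_range_succ, hP.coeff_natDegree, one_smul] at h
  have h' := congrArg L h
  rw [map_zero, map_add, hL, htop i hi, htop j hj, map_sum] at h'
  refine Eq.trans ?_ h'
  rw [neg_mul_neg]
  congr 1
  symm
  rw [Finset.sum_eq_single i]
  · rw [map_smul, hL, hδ i i hi hi, hδ j i hj hi, if_pos rfl, _root_.one_mul, smul_eq_mul]
    by_cases hij : i = j
    · rw [if_pos hij, if_pos hij.symm, _root_.mul_one]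
    · rw [if_neg hij, if_neg (Ne.symm hij), mul_zero]
  · intro b hb hne
    rw [map_smul, hL, hδ i b hi (by simpa using hb), if_neg hne.symm, zero_mul, smul_zero]
  · intro hb; simp at hb; omega

/-- A polynomial cutting out a multiplicative subgroup is `X ^ n - 1`. -/
theorem eq_X_pow_sub_one {P : K[X]} (hP : P.Monic) (h0 : P.coeff 0 ≠ 0) (hdeg : 0 < P.natDegree)
    (h : aeval ((AdjoinRoot.root P) ⊗ₜ[K] AdjoinRoot.root P) P = 0) : P = X ^ P.natDegree - 1 := by
  have h00 := mul_coeff_eq_zero hP h hdeg hdeg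
  rw [if_pos rfl] at h00
  have hc0 : P.coeff 0 = -1 := by
    have : P.coeff 0 * (1 + P.coeff 0) = 0 := by linear_combination h00
    exact eq_neg_of_add_eq_zero_right ((mul_eq_zero.1 this).resolve_left h0)
  ext m
  rw [coeff_sub, coeff_X_pow, coeff_one]
  rcases lt_trichotomy m P.natDegree with hlt | rfl | hgt
  · rcases Nat.eq_zero_or_pos m with rfl | hm
    · rw [if_neg (by omega), if_pos rfl, hc0, zero_sub]
    · have := mul_coeff_eq_zero hP h hlt hdeg
      rw [if_neg hm.ne', _root_.zero_add, hc0, mul_neg, _root_.mul_one, neg_eq_zero] at this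
      rw [if_neg hlt.ne, if_neg hm.ne', this, sub_zero]
  · rw [if_pos rfl, if_neg hdeg.ne', sub_zero, hP.coeff_natDegree]
  · rw [if_neg hgt.ne', if_neg (by omega), sub_zero, coeff_eq_zero_of_natDegree_lt hgt]

theorem cst_injective_point : Function.Injective (cst (𝟙_ (Over (Spec (CommRingCat.of K))))) := by
  haveI : Nontrivial Γ((𝟙_ (Over (Spec (CommRingCat.of K)))).left, ⊤) :=
    (Scheme.ΓSpecIso (CommRingCat.of K)).commRingCatIsoToRingEquiv.toEquiv.nontrivial
  exact RingHom.injective _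

/-- The coordinate of `G_a`. -/
def gaX (K : Type u) [Field K] : Γ((Red.Ga (Spec (CommRingCat.of K))).left, ⊤) :=
  Red.gaFn (𝟙 (Red.Ga (Spec (CommRingCat.of K))))

/-- The coordinate of `G_m`. -/
def gmX (K : Type u) [Field K] : Γ((Red.Gm (Spec (CommRingCat.of K))).left, ⊤) :=
  Red.gmFn (𝟙 (Red.Gm (Spec (CommRingCat.of K))))

theorem appTop_gaX {T : Over (Spec (CommRingCat.of K))} (g : T ⟶ Red.Ga (Spec (CommRingCat.of K))) :
    g.left.appTop (gaX K) = Red.gaFn g := by rw [gaX, ← gaFn_comp, Category.comp_id]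

theorem appTop_gmX {T : Over (Spec (CommRingCat.of K))} (g : T ⟶ Red.Gm (Spec (CommRingCat.of K))) :
    g.left.appTop (gmX K) = Red.gmFn g := by rw [gmX, ← gmFn_comp, Category.comp_id]

instance isAffine_ga : IsAffine (Red.Ga (Spec (CommRingCat.of K))).left := by
  haveI : IsAffine (Red.GaZ.{u}).left :=
    inferInstanceAs (IsAffine (Spec (CommRingCat.of (SymmetricAlgebra (ULift.{u} ℤ) (ULift.{u} ℤ)))))
  exact inferInstanceAs (IsAffine (pullback _ _))

instance isAffine_gm : IsAffine (Red.Gm (Spec (CommRingCat.of K))).left := by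
  haveI : IsAffine (Red.diag (ULift.{u} ℤ) ℤ).left :=
    inferInstanceAs (IsAffine (Spec (CommRingCat.of (MonoidAlgebra (ULift.{u} ℤ) (Multiplicative ℤ)))))
  exact inferInstanceAs (IsAffine (pullback _ _))

set_option maxHeartbeats 800000 in
theorem gen_gaX : Gen (gaX K) := by
  let Y := Red.Ga (Spec (CommRingCat.of K))
  let B : Subring Γ(Y.left, ⊤) :=
    { carrier := {d | ∃ Q : K[X], d = ev Y (gaX K) Q}
      zero_mem' := ⟨0, (map_zero _).symm⟩
      one_mem' := ⟨1, (map_one _).symm⟩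
      add_mem' := fun {a b} ⟨Q, hQ⟩ ⟨R, hR⟩ => ⟨Q + R, by rw [map_add, ← hQ, ← hR]⟩
      neg_mem' := fun {a} ⟨Q, hQ⟩ => ⟨-Q, by rw [map_neg, ← hQ]⟩
      mul_mem' := fun {a b} ⟨Q, hQ⟩ ⟨R, hR⟩ => ⟨Q * R, by rw [map_mul, ← hQ, ← hR]⟩ }
  have hc : ∀ c, cst Y c ∈ B := fun c => ⟨C c, (ev_C _ _ c).symm⟩
  have hxB : gaX K ∈ B := ⟨X, (ev_X _ _).symm⟩
  intro d
  have h : d ∈ B := by
    refine exists_eq_of_point (x := gaX K) B hc (fun g hg => gaFn_injective (by rw [← appTop_gaX, hg]; rfl)) ?_ d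
    obtain ⟨y, hy⟩ := exists_gaFn (S := Spec (CommRingCat.of K)) (fnEquiv ((cst Y).codRestrict B hc) ⟨gaX K, hxB⟩)
    exact ⟨y, hxB, by rw [appTop_gaX, hy]⟩
  obtain ⟨Q, hQ⟩ := h
  exact ⟨0, Q, Or.inl rfl, by rw [pow_zero, _root_.one_mul]; exact hQ⟩

set_option maxHeartbeats 800000 in
theorem gen_gmX : Gen (gmX K) := by
  let Y := Red.Gm (Spec (CommRingCat.of K))
  have hu : IsUnit (gmX K) := isUnit_gmFn _
  let B : Subring Γ(Y.left, ⊤) :=
    { carrier := {d | ∃ (m : ℕ) (Q : K[X]), gmX K ^ m * d = ev Y (gmX K) Q}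
      zero_mem' := ⟨0, 0, by simp⟩
      one_mem' := ⟨0, 1, by simp⟩
      add_mem' := fun {a b} ⟨m, Q, hQ⟩ ⟨l, R, hR⟩ => ⟨m + l, X ^ l * Q + X ^ m * R, by
        rw [map_add, map_mul, map_mul, map_pow, map_pow, ev_X, ← hQ, ← hR]; ring⟩
      neg_mem' := fun {a} ⟨m, Q, hQ⟩ => ⟨m, -Q, by rw [map_neg, ← hQ, mul_neg]⟩
      mul_mem' := fun {a b} ⟨m, Q, hQ⟩ ⟨l, R, hR⟩ => ⟨m + l, Q * R, by rw [map_mul, ← hQ, ← hR]; ring⟩ }
  have hc : ∀ c, cst Y c ∈ B := fun c => ⟨0, C c, by rw [pow_zero, _root_.one_mul, ev_C]⟩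
  have hxB : gmX K ∈ B := ⟨0, X, by rw [pow_zero, _root_.one_mul, ev_X]⟩
  have hwB : (↑hu.unit⁻¹ : Γ(Y.left, ⊤)) ∈ B := ⟨1, 1, by rw [pow_one, map_one, IsUnit.mul_val_inv]⟩
  have hxu : IsUnit (⟨gmX K, hxB⟩ : B) :=
    ⟨⟨⟨gmX K, hxB⟩, ⟨_, hwB⟩, Subtype.ext hu.mul_val_inv, Subtype.ext hu.val_inv_mul⟩, rfl⟩
  intro d
  have h : d ∈ B := by
    refine exists_eq_of_point (x := gmX K) B hc (fun g hg => gmFn_injective (by rw [← appTop_gmX, hg]; rfl)) ?_ d
    obtain ⟨y, hy⟩ := exists_gmFn (S := Spec (CommRingCat.of K)) (hxu.map (fnEquiv ((cst Y).codRestrict B hc)))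
    exact ⟨y, hxB, by rw [appTop_gmX, hy]⟩
  obtain ⟨m, Q, hQ⟩ := h
  exact ⟨m, Q, Or.inr hu, hQ⟩

theorem ev_gaX_injective : Function.Injective (ev (Red.Ga (Spec (CommRingCat.of K))) (gaX K)) := fun Q R h => by
  obtain ⟨y, hy⟩ := exists_gaFn (S := Spec (CommRingCat.of K)) (fnEquiv (C : K →+* K[X]) X)
  have h' := congrArg y.left.appTop h
  rw [appTop_ev, appTop_ev, appTop_gaX, hy, ← fnEquiv_ev, ← fnEquiv_ev, eval₂_C_X, eval₂_C_X] at h'
  exact (fnEquiv (C : K →+* K[X])).injective h'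

theorem ev_gmX_injective : Function.Injective (ev (Red.Gm (Spec (CommRingCat.of K))) (gmX K)) := fun Q R h => by
  let F := FractionRing K[X]
  let c : K →+* F := (algebraMap K[X] F).comp C
  have hX : IsUnit (algebraMap K[X] F X) :=
    isUnit_iff_ne_zero.2 ((map_ne_zero_iff _ (IsFractionRing.injective K[X] F)).2 X_ne_zero)
  obtain ⟨y, hy⟩ := exists_gmFn (S := Spec (CommRingCat.of K)) (hX.map (fnEquiv c))
  have h' := congrArg y.left.appTop h
  rw [appTop_ev, appTop_ev, appTop_gmX, hy, ← fnEquiv_ev, ← fnEquiv_ev] at h'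
  have h'' := (fnEquiv c).injective h'
  rw [← hom_eval₂, ← hom_eval₂, eval₂_C_X, eval₂_C_X] at h''
  exact IsFractionRing.injective K[X] F h''

theorem ga_case {H : Over (Spec (CommRingCat.of K))} [GrpObj H] [IsFinite H.hom]
    (i : H ⟶ Red.Ga (Spec (CommRingCat.of K))) [IsMonHom i] [Mono i] :
    ∃ φ : Red.Ga (Spec (CommRingCat.of K)) ⟶ Red.Ga (Spec (CommRingCat.of K)),
      IsMonHom φ ∧ AlgGrp.IsKernel i φ ∧ Flat φ.left ∧ Surjective φ.left := by
  obtain ⟨P, hP, -, -, hcut⟩ := exists_cut (gen_gaX (K := K)) i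
  have hcut' : ∀ (T : Over (Spec (CommRingCat.of K))) (g : T ⟶ (Red.Ga (Spec (CommRingCat.of K)))),
      ev T (Red.gaFn g) P = 0 ↔ ∃ n : T ⟶ H, n ≫ i = g := fun T g => by rw [← appTop_gaX]; exact hcut T g
  have h0 : P.coeff 0 = 0 := by
    have h := (hcut' (𝟙_ _) 1).2 ⟨1, MonObj.one_comp i⟩
    rw [gaFn_one] at h
    refine cst_injective_point ?_
    rw [map_zero, ← h]
    exact (eval₂_at_zero _).symm
  have hdeg : 0 < P.natDegree := Nat.pos_of_ne_zero fun hd => by
    have := hP.coeff_natDegree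
    rw [hd, h0] at this
    exact zero_ne_one this
  have hroots : aeval ((AdjoinRoot.root P) ⊗ₜ[K] (1 : AdjoinRoot P) +
      (1 : AdjoinRoot P) ⊗ₜ[K] AdjoinRoot.root P) P = 0 := by
    let c := algebraMap K (AdjoinRoot P ⊗[K] AdjoinRoot P)
    have hr : aeval (AdjoinRoot.root P) P = 0 := by rw [AdjoinRoot.aeval_eq, AdjoinRoot.mk_self]
    have hl : aeval ((AdjoinRoot.root P) ⊗ₜ[K] (1 : AdjoinRoot P)) P = 0 := by
      rw [show (AdjoinRoot.root P) ⊗ₜ[K] (1 : AdjoinRoot P) = Algebra.TensorProduct.includeLeft (S := K) (AdjoinRoot.root P)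
        from rfl, aeval_algHom_apply, hr, map_zero]
    have hr' : aeval ((1 : AdjoinRoot P) ⊗ₜ[K] (AdjoinRoot.root P)) P = 0 := by
      rw [show (1 : AdjoinRoot P) ⊗ₜ[K] (AdjoinRoot.root P) = Algebra.TensorProduct.includeRight (AdjoinRoot.root P)
        from rfl, aeval_algHom_apply, hr, map_zero]
    obtain ⟨g₁, hg₁⟩ := exists_gaFn (S := Spec (CommRingCat.of K)) (fnEquiv c ((AdjoinRoot.root P) ⊗ₜ[K] (1 : AdjoinRoot P)))
    obtain ⟨g₂, hg₂⟩ := exists_gaFn (S := Spec (CommRingCat.of K)) (fnEquiv c ((1 : AdjoinRoot P) ⊗ₜ[K] AdjoinRoot.root P))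
    obtain ⟨n₁, hn₁⟩ := (hcut' _ g₁).1 (by rw [hg₁, ← fnEquiv_ev]; exact (congrArg (fnEquiv c) hl).trans (map_zero _))
    obtain ⟨n₂, hn₂⟩ := (hcut' _ g₂).1 (by rw [hg₂, ← fnEquiv_ev]; exact (congrArg (fnEquiv c) hr').trans (map_zero _))
    have h := (hcut' _ (g₁ * g₂)).2 ⟨n₁ * n₂, by rw [MonObj.mul_comp n₁ n₂ i, hn₁, hn₂]⟩
    rw [gaFn_mul, hg₁, hg₂, ← map_add, ← fnEquiv_ev] at h
    exact (map_eq_zero_iff _ (fnEquiv c).injective).1 h
  have hadd : ∀ (T : Over (Spec (CommRingCat.of K))) (u v : Γ(T.left, ⊤)), ev T (u + v) P = ev T u P + ev T v P :=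
    fun T u v => eval_add_of_coeff (cst T) h0 (fun a b ha hb hab => add_coeff_eq_zero hP hroots ha hb hab) u v
  obtain ⟨φ, hφ⟩ := exists_gaFn (S := Spec (CommRingCat.of K)) (X := (Red.Ga (Spec (CommRingCat.of K)))) (ev (Red.Ga (Spec (CommRingCat.of K))) (gaX K) P)
  have hval : ∀ (T : Over (Spec (CommRingCat.of K))) (g : T ⟶ (Red.Ga (Spec (CommRingCat.of K)))), Red.gaFn (g ≫ φ) = ev T (Red.gaFn g) P :=
    fun T g => by rw [gaFn_comp, hφ, appTop_ev, appTop_gaX]
  haveI : IsMonHom φ := WittGrp.isMonHom_of_comp_mul φ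
    (gaFn_injective (by rw [hval, gaFn_one]; exact (eval₂_at_zero _).trans (by rw [h0, map_zero])))
    fun T u v => gaFn_injective (by rw [hval, gaFn_mul, gaFn_mul, hadd, hval, hval])
  refine ⟨φ, inferInstance, AlgGrpLib.isKernel_of_points i φ ?_ fun T g hg => (hcut' T g).1 ?_, ?_⟩
  · exact gaFn_injective (by rw [hval, gaFn_one, (hcut' H i).2 ⟨𝟙 H, Category.id_comp i⟩])
  · rw [← hval, hg, gaFn_one]
  · exact flat_surjective_of_coord gen_gaX ev_gaX_injective φ hP hdeg (by rw [appTop_gaX, hφ])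
      fun hu => absurd hu (fun hu => by
        obtain ⟨g, hg⟩ := exists_gaFn (S := Spec (CommRingCat.of K)) (X := 𝟙_ (Over (Spec (CommRingCat.of K)))) 0
        have := hu.map g.left.appTop.hom
        rw [show g.left.appTop (gaX K) = 0 by rw [appTop_gaX, hg]] at this
        exact one_ne_zero (cst_injective_point (K := K) ((map_one _).trans ((isUnit_zero_iff.1 this).symm.trans (map_zero _).symm))))

theorem gm_case {H : Over (Spec (CommRingCat.of K))} [GrpObj H] [IsFinite H.hom]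
    (i : H ⟶ Red.Gm (Spec (CommRingCat.of K))) [IsMonHom i] [Mono i] :
    ∃ φ : Red.Gm (Spec (CommRingCat.of K)) ⟶ Red.Gm (Spec (CommRingCat.of K)),
      IsMonHom φ ∧ AlgGrp.IsKernel i φ ∧ Flat φ.left ∧ Surjective φ.left := by
  obtain ⟨P, hP, -, hc0, hcut⟩ := exists_cut (gen_gmX (K := K)) i
  have hu : IsUnit (gmX K) := isUnit_gmFn _
  have hcut' : ∀ (T : Over (Spec (CommRingCat.of K))) (g : T ⟶ (Red.Gm (Spec (CommRingCat.of K)))),
      ev T (Red.gmFn g) P = 0 ↔ ∃ n : T ⟶ H, n ≫ i = g := fun T g => by rw [← appTop_gmX]; exact hcut T g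
  have hdeg : 0 < P.natDegree := Nat.pos_of_ne_zero fun hd => by
    have h := (hcut' (𝟙_ _) 1).2 ⟨1, MonObj.one_comp i⟩
    rw [eq_one_of_monic_natDegree_zero hP hd, map_one] at h
    exact one_ne_zero (cst_injective_point (K := K) ((map_one _).trans (h.trans (map_zero _).symm)))
  have hroots : aeval ((AdjoinRoot.root P) ⊗ₜ[K] AdjoinRoot.root P) P = 0 := by
    let c := algebraMap K (AdjoinRoot P ⊗[K] AdjoinRoot P)
    let l : AdjoinRoot P →ₐ[K] AdjoinRoot P ⊗[K] AdjoinRoot P := Algebra.TensorProduct.includeLeft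
    let r : AdjoinRoot P →ₐ[K] AdjoinRoot P ⊗[K] AdjoinRoot P := Algebra.TensorProduct.includeRight
    have hr : aeval (AdjoinRoot.root P) P = 0 := by rw [AdjoinRoot.aeval_eq, AdjoinRoot.mk_self]
    have hunit : IsUnit (AdjoinRoot.root P) := by
      obtain ⟨R, hR⟩ := Polynomial.X_dvd_sub_C (p := P)
      have h2 : AdjoinRoot.root P * aeval (AdjoinRoot.root P) R = -algebraMap K _ (P.coeff 0) := by
        have := congrArg (aeval (AdjoinRoot.root P)) hR
        rw [map_sub, hr, aeval_C, zero_sub, map_mul, aeval_X] at this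
        exact this.symm
      exact isUnit_of_mul_isUnit_left (h2 ▸ ((isUnit_iff_ne_zero.2 (hc0 hu)).map (algebraMap K _)).neg)
    obtain ⟨g₁, hg₁⟩ := exists_gmFn (S := Spec (CommRingCat.of K)) ((hunit.map l).map (fnEquiv c))
    obtain ⟨g₂, hg₂⟩ := exists_gmFn (S := Spec (CommRingCat.of K)) ((hunit.map r).map (fnEquiv c))
    obtain ⟨n₁, hn₁⟩ := (hcut' _ g₁).1 (by
      rw [hg₁, ← fnEquiv_ev]
      exact (congrArg (fnEquiv c) ((aeval_algHom_apply l _ P).trans (by rw [hr, map_zero]))).trans (map_zero _))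
    obtain ⟨n₂, hn₂⟩ := (hcut' _ g₂).1 (by
      rw [hg₂, ← fnEquiv_ev]
      exact (congrArg (fnEquiv c) ((aeval_algHom_apply r _ P).trans (by rw [hr, map_zero]))).trans (map_zero _))
    have h := (hcut' _ (g₁ * g₂)).2 ⟨n₁ * n₂, by rw [MonObj.mul_comp n₁ n₂ i, hn₁, hn₂]⟩
    rw [gmFn_mul, hg₁, hg₂, ← map_mul, ← fnEquiv_ev] at h
    have h' := (map_eq_zero_iff _ (fnEquiv c).injective).1 h
    rwa [show l (AdjoinRoot.root P) * r (AdjoinRoot.root P) = (AdjoinRoot.root P) ⊗ₜ[K] AdjoinRoot.root P by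
      simp [l, r]] at h'
  have hPX := eq_X_pow_sub_one hP (hc0 hu) hdeg hroots
  obtain ⟨φ, hφ⟩ := exists_gmFn (S := Spec (CommRingCat.of K)) (X := (Red.Gm (Spec (CommRingCat.of K)))) (hu.pow P.natDegree)
  have hval : ∀ (T : Over (Spec (CommRingCat.of K))) (g : T ⟶ (Red.Gm (Spec (CommRingCat.of K)))), Red.gmFn (g ≫ φ) = Red.gmFn g ^ P.natDegree :=
    fun T g => by rw [gmFn_comp, hφ, map_pow, appTop_gmX]
  have hevP : ∀ (T : Over (Spec (CommRingCat.of K))) (u : Γ(T.left, ⊤)), ev T u P = u ^ P.natDegree - 1 := fun T u => by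
    conv_lhs => rw [hPX]
    rw [map_sub, map_pow, map_one, ev_X]
  haveI : IsMonHom φ := WittGrp.isMonHom_of_comp_mul φ
    (gmFn_injective (by rw [hval, gmFn_one, one_pow]))
    fun T u v => gmFn_injective (by rw [hval, gmFn_mul, gmFn_mul, mul_pow, hval, hval])
  refine ⟨φ, inferInstance, AlgGrpLib.isKernel_of_points i φ ?_ fun T g hg => (hcut' T g).1 ?_, ?_⟩
  · refine gmFn_injective ?_
    rw [hval, gmFn_one, ← sub_eq_zero, ← hevP]
    exact (hcut' H i).2 ⟨𝟙 H, Category.id_comp i⟩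
  · rw [hevP, ← hval, hg, gmFn_one, sub_self]
  · exact flat_surjective_of_coord gen_gmX ev_gmX_injective φ (monic_X_pow P.natDegree)
      (by rw [natDegree_X_pow]; exact hdeg) (by rw [appTop_gmX, hφ, map_pow, ev_X])
      fun _ => by rw [natDegree_X_pow]

end Groth.Agent.GaGmQuot
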