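import Groth.Agent.GaGmQuot.Main
import Mathlib.RingTheory.Localization.Away.Basic
import Mathlib.RingTheory.Prime

/-!
# Group laws on the affine line and on the punctured line are determined by the unit
-/

set_option autoImplicit false
set_option linter.style.haveILetI false

universe u

open CategoryTheory CategoryTheory.Limits MonoidalCategory CartesianMonoidalCategory MonObj AlgebraicGeometry
open Polynomial Groth.Agent.SGA3cLib

noncomputable section

namespace Groth.Agent.GaGmQuot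

variable {K : Type u} [Field K]

/-- Evaluation of a two variable polynomial. -/
def m2 {A : Type u} [CommRing A] (P : K[X][X]) (c : K →+* A) (a b : A) : A :=
  eval₂RingHom (eval₂RingHom c b) a P

theorem m2_map {A A' : Type u} [CommRing A] [CommRing A'] (P : K[X][X]) (c : K →+* A) (f : A →+* A') (a b : A) :
    f (m2 P c a b) = m2 P (f.comp c) (f a) (f b) := by
  show (f.comp (eval₂RingHom (eval₂RingHom c b) a)) P = _
  refine DFunLike.congr_fun (Polynomial.ringHom_ext (fun q => ?_) (by simp)) P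
  rw [RingHom.comp_apply, coe_eval₂RingHom, eval₂_C, coe_eval₂RingHom (eval₂RingHom (f.comp c) (f b)), eval₂_C]
  exact hom_eval₂ q c f b

theorem m2_universal (P : K[X][X]) : m2 P (C.comp C) (X : K[X][X]) (C X) = P := by
  show eval₂RingHom (eval₂RingHom ((C : K[X] →+* K[X][X]).comp C) (C X)) X P = RingHom.id _ P
  refine DFunLike.congr_fun (Polynomial.ringHom_ext (fun q => ?_) (by simp)) P
  rw [coe_eval₂RingHom, eval₂_C, RingHom.id_apply]
  exact DFunLike.congr_fun (Polynomial.ringHom_ext (f := eval₂RingHom ((C : K[X] →+* K[X][X]).comp C) (C X))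
    (g := C) (fun r => by simp) (by simp)) q

theorem linear_left {P : K[X][X]} (e : K)
    (hassoc : ∀ (A : Type u) [CommRing A] (c : K →+* A) (a b d : A), m2 P c (m2 P c a b) d = m2 P c a (m2 P c b d))
    (hleft : ∀ (A : Type u) [CommRing A] (c : K →+* A) (b : A), m2 P c (c e) b = b) :
    ∃ R : K[X], ∀ (A : Type u) [CommRing A] (c : K →+* A) (a b : A), m2 P c a b = eval₂ c b R * (a - c e) + b := by
  let c₂ : K →+* K[X][X] := (C : K[X] →+* K[X][X]).comp C
  have h1 : m2 P c₂ P (C X) = P.comp P := by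
    show eval₂ (eval₂RingHom c₂ (C X)) P P = eval₂ C P P
    congr 1
    exact Polynomial.ringHom_ext (fun r => by simp [c₂]) (by simp)
  have h2 : m2 P c₂ X (C (m2 P C X X)) = P.map (eval₂RingHom C (m2 P C X X)) := by
    show eval₂ (eval₂RingHom c₂ (C (m2 P C X X))) X P = eval₂ (C.comp (eval₂RingHom C (m2 P C X X))) X P
    congr 1
    exact Polynomial.ringHom_ext (fun r => by simp [c₂]) (by simp)
  have h3 := hassoc K[X][X] c₂ X (C X) (C X)
  rw [m2_universal, h1, ← m2_map P C C X X, h2] at h3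
  have h4 : P.natDegree * P.natDegree ≤ P.natDegree := by
    rw [← natDegree_comp, h3]
    exact natDegree_map_le
  have h5 : P.natDegree ≤ 1 := by nlinarith
  obtain ⟨α, β, rfl⟩ := exists_eq_X_add_C_of_natDegree_le_one h5
  have hval : ∀ (A : Type u) [CommRing A] (c : K →+* A) (a b : A),
      m2 (C α * X + C β) c a b = eval₂ c b α * a + eval₂ c b β := fun A _ c a b => by
    simp [m2]
  refine ⟨α, fun A _ c a b => ?_⟩
  have h6 := hleft A c b
  rw [hval] at h6 ⊢
  linear_combination h6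

theorem law_eq_add {P : K[X][X]} (e : K)
    (hassoc : ∀ (A : Type u) [CommRing A] (c : K →+* A) (a b d : A), m2 P c (m2 P c a b) d = m2 P c a (m2 P c b d))
    (hleft : ∀ (A : Type u) [CommRing A] (c : K →+* A) (b : A), m2 P c (c e) b = b)
    (hright : ∀ (A : Type u) [CommRing A] (c : K →+* A) (a : A), m2 P c a (c e) = a)
    (hinv : ∀ b : K, ∃ a : K, m2 P (RingHom.id K) a b = e)
    (A : Type u) [CommRing A] (c : K →+* A) (a b : A) : m2 P c a b = a + b - c e := by
  let Q : K[X][X] := m2 P ((C : K[X] →+* K[X][X]).comp C) (C X) X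
  have hQ : ∀ (A : Type u) [CommRing A] (c : K →+* A) (a b : A), m2 Q c a b = m2 P c b a := fun A _ c a b => by
    show (eval₂RingHom (eval₂RingHom c b) a) Q = _
    rw [m2_map]
    congr 1
    · exact RingHom.ext fun r => by simp
    · simp
    · simp
  obtain ⟨R, hR⟩ := linear_left e hassoc hleft
  obtain ⟨R', hR'⟩ := linear_left (P := Q) e (fun A _ c a b d => by simp only [hQ]; exact (hassoc A c d b a).symm)
    (fun A _ c b => by rw [hQ]; exact hright A c b)
  let δ : K := eval (e + 1) R' - 1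
  have hRδ : R = C δ * (X - C e) + 1 := by
    have h1 := hR K[X] C (C (e + 1)) X
    rw [← hQ, hR', eval₂_at_apply, eval₂_C_X] at h1
    simp only [δ, map_sub, map_add, map_one] at h1 ⊢
    linear_combination -h1
  have hm : ∀ (A : Type u) [CommRing A] (c : K →+* A) (a b : A),
      m2 P c a b = (c δ * (b - c e) + 1) * (a - c e) + b := fun A _ c a b => by
    rw [hR A c a b, hRδ]; simp
  have hδ : δ = 0 := by
    by_contra h
    obtain ⟨a, ha⟩ := hinv (e - δ⁻¹)
    rw [hm] at ha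
    simp only [RingHom.id_apply] at ha
    rw [show δ * (e - δ⁻¹ - e) + 1 = 0 by rw [sub_sub_cancel_left, mul_neg, mul_inv_cancel₀ h, neg_add_cancel],
      zero_mul, zero_add, sub_eq_self] at ha
    exact inv_ne_zero h ha
  rw [hm, hδ, map_zero]
  ring

theorem exists_cst_eq (f : Γ((𝟙_ (Over (Spec (CommRingCat.of K)))).left, ⊤)) :
    ∃ e : K, f = cst (𝟙_ (Over (Spec (CommRingCat.of K)))) e := by
  obtain ⟨e, he⟩ := (ConcreteCategory.bijective_of_isIso (Scheme.ΓSpecIso (CommRingCat.of K)).inv).2 f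
  exact ⟨e, he.symm⟩

/-- A group law on the affine line is translated addition. -/
theorem ga_law (h : GrpObj (Red.Ga (Spec (CommRingCat.of K)))) :
    ∃ e : K, Red.gaFn h.one = cst (𝟙_ (Over (Spec (CommRingCat.of K)))) e ∧
      ∀ (T : Over (Spec (CommRingCat.of K))) (a b : T ⟶ Red.Ga (Spec (CommRingCat.of K))),
        Red.gaFn (lift a b ≫ h.mul) = Red.gaFn a + Red.gaFn b - cst T e := by
  let Y := Red.Ga (Spec (CommRingCat.of K))
  obtain ⟨e, he⟩ := exists_cst_eq (Red.gaFn h.one)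
  refine ⟨e, he, ?_⟩
  let c₂ : K →+* K[X][X] := (C : K[X] →+* K[X][X]).comp C
  obtain ⟨p₁, hp₁⟩ := exists_gaFn (S := Spec (CommRingCat.of K)) (fnEquiv c₂ X)
  obtain ⟨p₂, hp₂⟩ := exists_gaFn (S := Spec (CommRingCat.of K)) (fnEquiv c₂ (C X))
  let P : K[X][X] := (fnEquiv c₂).symm (Red.gaFn (lift p₁ p₂ ≫ h.mul))
  have hlaw : ∀ (T : Over (Spec (CommRingCat.of K))) (a b : T ⟶ Y),
      Red.gaFn (lift a b ≫ h.mul) = m2 P (cst T) (Red.gaFn a) (Red.gaFn b) := fun T a b => by
    let ψ : K[X][X] →+* Γ(T.left, ⊤) := eval₂RingHom (eval₂RingHom (cst T) (Red.gaFn b)) (Red.gaFn a)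
    obtain ⟨g, hg⟩ := exists_hom (T := T) (X := mkOver c₂) (ψ.comp (fnEquiv c₂).symm.toRingHom) fun r => by
      rw [← fnEquiv_cst, RingHom.comp_apply]
      show ψ ((fnEquiv c₂).symm (fnEquiv c₂ (c₂ r))) = _
      rw [RingEquiv.symm_apply_apply]
      simp [ψ, c₂]
    have ha : g ≫ p₁ = a := gaFn_injective (by
      rw [gaFn_comp, hp₁, hg, RingHom.comp_apply]
      show ψ ((fnEquiv c₂).symm (fnEquiv c₂ X)) = _
      rw [RingEquiv.symm_apply_apply]; simp [ψ])
    have hb : g ≫ p₂ = b := gaFn_injective (by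
      rw [gaFn_comp, hp₂, hg, RingHom.comp_apply]
      show ψ ((fnEquiv c₂).symm (fnEquiv c₂ (C X))) = _
      rw [RingEquiv.symm_apply_apply]; simp [ψ])
    calc Red.gaFn (lift a b ≫ h.mul) = Red.gaFn (g ≫ lift p₁ p₂ ≫ h.mul) := by
          rw [comp_lift_assoc, ha, hb]
      _ = _ := by rw [gaFn_comp, hg]; rfl
  have hone : ∀ T : Over (Spec (CommRingCat.of K)), Red.gaFn (toUnit T ≫ h.one) = cst T e := fun T => by
    rw [gaFn_comp, he, appTop_cst]
  have hpt : ∀ {A : Type u} [CommRing A] (c : K →+* A) (a b : A) (x y : mkOver c ⟶ Y),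
      Red.gaFn x = fnEquiv c a → Red.gaFn y = fnEquiv c b →
      Red.gaFn (lift x y ≫ h.mul) = fnEquiv c (m2 P c a b) := fun {A} _ c a b x y hx hy => by
    rw [hlaw, hx, hy]
    refine Eq.trans ?_ (m2_map P c (fnEquiv c).toRingHom a b).symm
    congr 1
    exact RingHom.ext fun r => (fnEquiv_cst c r).symm
  letI := h
  have hassoc : ∀ (A : Type u) [CommRing A] (c : K →+* A) (a b d : A),
      m2 P c (m2 P c a b) d = m2 P c a (m2 P c b d) := fun A _ c a b d => by
    obtain ⟨x, hx⟩ := exists_gaFn (S := Spec (CommRingCat.of K)) (fnEquiv c a)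
    obtain ⟨y, hy⟩ := exists_gaFn (S := Spec (CommRingCat.of K)) (fnEquiv c b)
    obtain ⟨z, hz⟩ := exists_gaFn (S := Spec (CommRingCat.of K)) (fnEquiv c d)
    refine (fnEquiv c).injective ?_
    rw [← hpt c _ _ _ z (hpt c a b x y hx hy) hz, ← hpt c _ _ x _ hx (hpt c b d y z hy hz)]
    exact congrArg Red.gaFn (_root_.mul_assoc x y z)
  have hleft : ∀ (A : Type u) [CommRing A] (c : K →+* A) (b : A), m2 P c (c e) b = b := fun A _ c b => by
    obtain ⟨y, hy⟩ := exists_gaFn (S := Spec (CommRingCat.of K)) (fnEquiv c b)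
    refine (fnEquiv c).injective ?_
    rw [← hpt c _ _ (toUnit _ ≫ h.one) y ((hone _).trans (fnEquiv_cst c e).symm) hy, ← hy]
    exact congrArg Red.gaFn (_root_.one_mul y)
  have hright : ∀ (A : Type u) [CommRing A] (c : K →+* A) (a : A), m2 P c a (c e) = a := fun A _ c a => by
    obtain ⟨x, hx⟩ := exists_gaFn (S := Spec (CommRingCat.of K)) (fnEquiv c a)
    refine (fnEquiv c).injective ?_
    rw [← hpt c _ _ x (toUnit _ ≫ h.one) hx ((hone _).trans (fnEquiv_cst c e).symm), ← hx]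
    exact congrArg Red.gaFn (_root_.mul_one x)
  have hinv : ∀ b : K, ∃ a : K, m2 P (RingHom.id K) a b = e := fun b => by
    obtain ⟨y, hy⟩ := exists_gaFn (S := Spec (CommRingCat.of K)) (fnEquiv (RingHom.id K) b)
    refine ⟨(fnEquiv (RingHom.id K)).symm (Red.gaFn y⁻¹), (fnEquiv (RingHom.id K)).injective ?_⟩
    rw [← hpt _ _ _ y⁻¹ y ((fnEquiv _).apply_symm_apply _).symm hy]
    refine ((congrArg Red.gaFn (inv_mul_cancel y)).trans (hone _)).trans ?_
    exact (fnEquiv_cst (RingHom.id K) e).symm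
  intro T a b
  rw [hlaw]
  exact law_eq_add e hassoc hleft hright hinv _ _ _ _

theorem ga_mul_eq (h₁ h₂ : GrpObj (Red.Ga (Spec (CommRingCat.of K)))) (e : h₁.one = h₂.one) : h₁.mul = h₂.mul := by
  obtain ⟨e₁, he₁, hl₁⟩ := ga_law h₁
  obtain ⟨e₂, he₂, hl₂⟩ := ga_law h₂
  have : e₁ = e₂ := cst_injective_point (he₁.symm.trans ((congrArg Red.gaFn e).trans he₂))
  refine gaFn_injective ?_
  have h1 := hl₁ _ (fst _ _) (snd (Red.Ga (Spec (CommRingCat.of K))) (Red.Ga (Spec (CommRingCat.of K))))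
  have h2 := hl₂ _ (fst _ _) (snd (Red.Ga (Spec (CommRingCat.of K))) (Red.Ga (Spec (CommRingCat.of K))))
  rw [lift_fst_snd, Category.id_comp] at h1 h2
  rw [h1, h2, this]

/-- A divisor of a monomial in two variables is a monomial. -/
theorem monomial_of_mul_eq {Q R : K[X][X]} {n m : ℕ} (h : Q * R = (C X : K[X][X]) ^ m * X ^ n) :
    ∃ (r : K) (i j : ℕ), r ≠ 0 ∧ Q = C (C r) * (C X) ^ j * X ^ i := by
  obtain ⟨i, i', b, c, -, hbc, rfl, rfl⟩ := mul_eq_mul_prime_pow (Polynomial.prime_X) h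
  obtain ⟨j, j', b', c', -, hbc', hb', -⟩ :=
    mul_eq_mul_prime_pow (x := b) (y := c) (n := m) (a := (1 : K[X][X])) (Polynomial.prime_C_iff.2 Polynomial.prime_X)
      (by rw [_root_.one_mul, hbc])
  obtain ⟨q, hq, hb⟩ := Polynomial.isUnit_iff.1 (IsUnit.of_mul_eq_one _ hbc'.symm)
  obtain ⟨r, hr, hq'⟩ := Polynomial.isUnit_iff.1 hq
  exact ⟨r, i, j, hr.ne_zero, by rw [hb', ← hb, ← hq']⟩

theorem gm_law (h : GrpObj (Red.Gm (Spec (CommRingCat.of K)))) :
    ∃ e : K, e ≠ 0 ∧ Red.gmFn h.one = cst (𝟙_ (Over (Spec (CommRingCat.of K)))) e ∧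
      ∀ (T : Over (Spec (CommRingCat.of K))) (a b : T ⟶ Red.Gm (Spec (CommRingCat.of K))),
        cst T e * Red.gmFn (lift a b ≫ h.mul) = Red.gmFn a * Red.gmFn b := by
  let Y := Red.Gm (Spec (CommRingCat.of K))
  obtain ⟨e, he⟩ := exists_cst_eq (Red.gmFn h.one)
  have he0 : e ≠ 0 := fun h0 => by
    have := isUnit_gmFn h.one
    rw [he, h0, map_zero] at this
    exact one_ne_zero (cst_injective_point (K := K) ((map_one _).trans ((isUnit_zero_iff.1 this).symm.trans (map_zero _).symm)))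
  refine ⟨e, he0, he, ?_⟩
  let t : K[X][X] := X * C X
  let c₂ : K →+* Localization.Away t := (algebraMap K[X][X] (Localization.Away t)).comp ((C : K[X] →+* K[X][X]).comp C)
  let x₂ : Localization.Away t := algebraMap _ _ (X : K[X][X])
  let y₂ : Localization.Away t := algebraMap _ _ (C X : K[X][X])
  have hu : IsUnit (x₂ * y₂) := by
    rw [← map_mul]; exact IsLocalization.Away.algebraMap_isUnit t
  obtain ⟨p₁, hp₁⟩ := exists_gmFn (S := Spec (CommRingCat.of K)) ((isUnit_of_mul_isUnit_left hu).map (fnEquiv c₂))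
  obtain ⟨p₂, hp₂⟩ := exists_gmFn (S := Spec (CommRingCat.of K)) ((isUnit_of_mul_isUnit_right hu).map (fnEquiv c₂))
  let M : Localization.Away t := (fnEquiv c₂).symm (Red.gmFn (lift p₁ p₂ ≫ h.mul))
  have hM : IsUnit M := (isUnit_gmFn _).map (fnEquiv c₂).symm
  obtain ⟨k, Q, hQ⟩ := IsLocalization.Away.surj t M
  obtain ⟨k', R, hR⟩ := IsLocalization.Away.surj t (↑hM.unit⁻¹ : Localization.Away t)
  have ht : t ≠ 0 := mul_ne_zero X_ne_zero (C_ne_zero.2 X_ne_zero)
  have hinj : Function.Injective (algebraMap K[X][X] (Localization.Away t)) :=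
    IsLocalization.injective _ (powers_le_nonZeroDivisors_of_noZeroDivisors ht)
  have hmono : Q * R = (C X : K[X][X]) ^ (k + k') * X ^ (k + k') := by
    refine hinj ?_
    rw [map_mul, ← hQ, ← hR, _root_.mul_mul_mul_comm, hM.mul_val_inv, _root_.one_mul, ← pow_add, ← map_pow, ← mul_pow,
      mul_comm (C X : K[X][X])]
  obtain ⟨r, i, j, -, rfl⟩ := monomial_of_mul_eq hmono
  have hlaw : ∀ (T : Over (Spec (CommRingCat.of K))) (a b : T ⟶ Y),
      Red.gmFn (lift a b ≫ h.mul) * (Red.gmFn a * Red.gmFn b) ^ k =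
        cst T r * Red.gmFn b ^ j * Red.gmFn a ^ i := fun T a b => by
    let ψ₀ : K[X][X] →+* Γ(T.left, ⊤) := eval₂RingHom (eval₂RingHom (cst T) (Red.gmFn b)) (Red.gmFn a)
    have hψ₀ : IsUnit (ψ₀ t) := by
      have : ψ₀ t = Red.gmFn a * Red.gmFn b := by simp [ψ₀, t]; exact mul_comm _ _
      rw [this]; exact (isUnit_gmFn a).mul (isUnit_gmFn b)
    let ψ : Localization.Away t →+* Γ(T.left, ⊤) := IsLocalization.Away.lift t hψ₀
    have hψ : ∀ q, ψ (algebraMap K[X][X] (Localization.Away t) q) = ψ₀ q := fun q =>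
      IsLocalization.Away.lift_eq t hψ₀ q
    obtain ⟨g, hg⟩ := exists_hom (T := T) (X := mkOver c₂) (ψ.comp (fnEquiv c₂).symm.toRingHom) fun r => by
      rw [← fnEquiv_cst, RingHom.comp_apply]
      show ψ ((fnEquiv c₂).symm (fnEquiv c₂ (c₂ r))) = _
      rw [RingEquiv.symm_apply_apply]
      exact (hψ _).trans (by simp [ψ₀])
    have ha : g ≫ p₁ = a := gmFn_injective (by
      rw [gmFn_comp, hp₁, hg, RingHom.comp_apply]
      show ψ ((fnEquiv c₂).symm (fnEquiv c₂ x₂)) = _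
      rw [RingEquiv.symm_apply_apply]; exact (hψ _).trans (by simp [ψ₀]))
    have hb : g ≫ p₂ = b := gmFn_injective (by
      rw [gmFn_comp, hp₂, hg, RingHom.comp_apply]
      show ψ ((fnEquiv c₂).symm (fnEquiv c₂ y₂)) = _
      rw [RingEquiv.symm_apply_apply]; exact (hψ _).trans (by simp [ψ₀]))
    have hm : Red.gmFn (lift a b ≫ h.mul) = ψ M := by
      calc Red.gmFn (lift a b ≫ h.mul) = Red.gmFn (g ≫ lift p₁ p₂ ≫ h.mul) := by
            rw [comp_lift_assoc, ha, hb]
        _ = _ := by rw [gmFn_comp, hg]; rfl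
    have h1 := congrArg ψ hQ
    rw [map_mul, map_pow, hψ, hψ] at h1
    rw [hm]
    simp [ψ₀, t, eval₂_pow] at h1
    linear_combination h1
  letI := h
  have hone : ∀ T : Over (Spec (CommRingCat.of K)), Red.gmFn (toUnit T ≫ h.one) = cst T e := fun T => by
    rw [gmFn_comp, he, appTop_cst]
  obtain ⟨hr1, hij⟩ : r * e ^ i = e ^ k ∧ j = k + 1 := by
    have h1 := hlaw Y (toUnit Y ≫ h.one) (𝟙 Y)
    have h2 : Red.gmFn (lift (toUnit Y ≫ h.one) (𝟙 Y) ≫ h.mul) = gmX K :=
      congrArg Red.gmFn (_root_.one_mul (𝟙 Y))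
    rw [h2, hone, mul_pow, show Red.gmFn (𝟙 Y) = gmX K from rfl] at h1
    have h3 : C (e ^ k) * X ^ (k + 1) = C (r * e ^ i) * X ^ j := ev_gmX_injective (K := K) (by
      simp only [map_mul, map_pow, ev_X, ev_C]
      linear_combination h1)
    rw [C_mul_X_pow_eq_monomial, C_mul_X_pow_eq_monomial, monomial_eq_monomial_iff] at h3
    rcases h3 with ⟨h4, h5⟩ | ⟨h4, -⟩
    · exact ⟨h5.symm, h4.symm⟩
    · exact absurd h4 (pow_ne_zero _ he0)
  obtain ⟨hr2, hii⟩ : r * e ^ j = e ^ k ∧ i = k + 1 := by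
    have h1 := hlaw Y (𝟙 Y) (toUnit Y ≫ h.one)
    have h2 : Red.gmFn (lift (𝟙 Y) (toUnit Y ≫ h.one) ≫ h.mul) = gmX K :=
      congrArg Red.gmFn (_root_.mul_one (𝟙 Y))
    rw [h2, hone, mul_pow, show Red.gmFn (𝟙 Y) = gmX K from rfl] at h1
    have h3 : C (e ^ k) * X ^ (k + 1) = C (r * e ^ j) * X ^ i := ev_gmX_injective (K := K) (by
      simp only [map_mul, map_pow, ev_X, ev_C]
      linear_combination h1)
    rw [C_mul_X_pow_eq_monomial, C_mul_X_pow_eq_monomial, monomial_eq_monomial_iff] at h3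
    rcases h3 with ⟨h4, h5⟩ | ⟨h4, -⟩
    · exact ⟨h5.symm, h4.symm⟩
    · exact absurd h4 (pow_ne_zero _ he0)
  have hre : r * e = 1 := by
    rw [hii, pow_succ] at hr1
    exact mul_right_cancel₀ (pow_ne_zero k he0) (by linear_combination hr1)
  intro T a b
  have h1 := hlaw T a b
  have hu' : IsUnit ((Red.gmFn a * Red.gmFn b) ^ k) := ((isUnit_gmFn a).mul (isUnit_gmFn b)).pow k
  refine hu'.mul_right_cancel ?_
  rw [_root_.mul_assoc, h1, hij, hii]
  have h2 : cst T e * cst T r = 1 := by rw [← map_mul, mul_comm, hre, map_one]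
  linear_combination (Red.gmFn b ^ (k + 1) * Red.gmFn a ^ (k + 1)) * h2

theorem gm_mul_eq (h₁ h₂ : GrpObj (Red.Gm (Spec (CommRingCat.of K)))) (e : h₁.one = h₂.one) : h₁.mul = h₂.mul := by
  obtain ⟨e₁, hne, he₁, hl₁⟩ := gm_law h₁
  obtain ⟨e₂, -, he₂, hl₂⟩ := gm_law h₂
  have : e₁ = e₂ := cst_injective_point (he₁.symm.trans ((congrArg Red.gmFn e).trans he₂))
  refine gmFn_injective ?_
  have h1 := hl₁ _ (fst _ _) (snd (Red.Gm (Spec (CommRingCat.of K))) (Red.Gm (Spec (CommRingCat.of K))))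
  have h2 := hl₂ _ (fst _ _) (snd (Red.Gm (Spec (CommRingCat.of K))) (Red.Gm (Spec (CommRingCat.of K))))
  rw [lift_fst_snd, Category.id_comp] at h1 h2
  rw [← h2, ← this] at h1
  exact ((isUnit_iff_ne_zero.2 hne).map (cst _)).mul_left_cancel h1

end Groth.Agent.GaGmQuot
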